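import Mathlib
import Cfsg.Prelude.Def_Sporadic_a

/-!
# S0429 (uniqueness of srg(77,16,0,4)): base definitions and the local design at a vertex

Adapted from helper2's `Lib/H2/SRG100a` (srg(100,22,0,6)).  Blueprint: `tools/blueprints/S0429.md`.
-/

set_option autoImplicit false
set_option linter.unusedSectionVars false
open Cfsg

namespace Cfsg.Agent.Lib.H1.S77

open Finset

section
variable {V : Type*} [Fintype V] [DecidableEq V] (G : SimpleGraph V) [DecidableRel G.Adj]

theorem card_common (v w : V) :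
    (G.neighborFinset v ∩ G.neighborFinset w).card = Fintype.card (G.commonNeighbors v w) := by
  rw [← Set.toFinset_card]
  congr 1
  ext x
  rw [Set.mem_toFinset]
  simp [SimpleGraph.commonNeighbors]

variable {G}
variable (hG : G.IsSRGWith 77 16 0 4)
include hG

theorem deg (v : V) : (G.neighborFinset v).card = 16 := hG.regular v

theorem adj_common {v w : V} (h : G.Adj v w) : G.neighborFinset v ∩ G.neighborFinset w = ∅ := by
  rw [← Finset.card_eq_zero, card_common]
  exact hG.of_adj v w h

theorem nadj_common {v w : V} (hne : v ≠ w) (h : ¬ G.Adj v w) :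
    (G.neighborFinset v ∩ G.neighborFinset w).card = 4 := by
  rw [card_common]
  exact hG.of_not_adj hne h

/-- no triangles -/
theorem no_tri {a b c : V} (h1 : G.Adj a b) (h2 : G.Adj a c) : ¬ G.Adj b c := by
  intro h3
  have := adj_common hG h3
  have ha : a ∈ G.neighborFinset b ∩ G.neighborFinset c := by
    rw [Finset.mem_inter, SimpleGraph.mem_neighborFinset, SimpleGraph.mem_neighborFinset]
    exact ⟨h1.symm, h2.symm⟩
  rw [this] at ha
  exact Finset.notMem_empty _ ha

omit hG
variable (G) (v0 : V)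

/-- the points: the 16 neighbours of `v0` -/
def nA : Finset V := G.neighborFinset v0

/-- the block vertices: the 60 non-neighbours of `v0` other than `v0` -/
def nB : Finset V := univ.filter (fun m => m ≠ v0 ∧ ¬ G.Adj v0 m)

/-- the block of a vertex: its neighbours among the points -/
def blk (m : V) : Finset V := G.neighborFinset m ∩ nA G v0

/-- the class of a block vertex `b`: `b` and its mates (non-adjacent block vertices with a
disjoint block) -/
def cls (b : V) : Finset V :=
  (nB G v0).filter (fun b' => b' = b ∨ (¬ G.Adj b b' ∧ Disjoint (blk G v0 b) (blk G v0 b')))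

/-- the set of classes -/
def classes : Finset (Finset V) := (nB G v0).image (cls G v0)

/-- two sets of vertices are non-orthogonal when some edge joins them -/
def nonorth (K K' : Finset V) : Prop := ∃ z ∈ K, ∃ z' ∈ K', G.Adj z z'

instance (K K' : Finset V) : Decidable (nonorth G K K') := by
  unfold nonorth; infer_instance

/-- cocliques of size 21 -/
def IsHC (C : Finset V) : Prop := C.card = 21 ∧ ∀ x ∈ C, ∀ y ∈ C, ¬ G.Adj x y

instance (C : Finset V) : Decidable (IsHC G C) := by
  unfold IsHC; infer_instance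

/-- the set of all cocliques of size 21 -/
def HC : Finset (Finset V) := univ.filter (fun C => IsHC G C)

variable {G v0}

theorem mem_nA {x : V} : x ∈ nA G v0 ↔ G.Adj v0 x := by
  rw [nA, SimpleGraph.mem_neighborFinset]

theorem mem_nB {m : V} : m ∈ nB G v0 ↔ m ≠ v0 ∧ ¬ G.Adj v0 m := by
  rw [nB, Finset.mem_filter]; simp

theorem mem_blk {m x : V} : x ∈ blk G v0 m ↔ G.Adj m x ∧ G.Adj v0 x := by
  rw [blk, Finset.mem_inter, SimpleGraph.mem_neighborFinset, mem_nA]

theorem mem_cls {b b' : V} : b' ∈ cls G v0 b ↔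
    b' ∈ nB G v0 ∧ (b' = b ∨ (¬ G.Adj b b' ∧ Disjoint (blk G v0 b) (blk G v0 b'))) := by
  rw [cls, Finset.mem_filter]

theorem mem_HC {C : Finset V} : C ∈ HC G ↔ IsHC G C := by
  rw [HC, Finset.mem_filter]; simp

theorem blk_subset (m : V) : blk G v0 m ⊆ nA G v0 := Finset.inter_subset_right

theorem v0_notMem_nA : v0 ∉ nA G v0 := by
  rw [mem_nA]; exact G.irrefl

theorem v0_notMem_nB : v0 ∉ nB G v0 := by
  rw [mem_nB]; tauto

theorem trichotomy (v : V) : v = v0 ∨ v ∈ nA G v0 ∨ v ∈ nB G v0 := by
  by_cases h0 : v = v0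
  · exact Or.inl h0
  · by_cases h1 : G.Adj v0 v
    · exact Or.inr (Or.inl (mem_nA.mpr h1))
    · exact Or.inr (Or.inr (mem_nB.mpr ⟨h0, h1⟩))

theorem nA_nB_disjoint {v : V} (h1 : v ∈ nA G v0) (h2 : v ∈ nB G v0) : False :=
  (mem_nB.mp h2).2 (mem_nA.mp h1)

theorem self_mem_cls {b : V} (hb : b ∈ nB G v0) : b ∈ cls G v0 b :=
  mem_cls.mpr ⟨hb, Or.inl rfl⟩

theorem cls_subset (b : V) : cls G v0 b ⊆ nB G v0 := Finset.filter_subset _ _

include hG

theorem card_nA : (nA G v0).card = 16 := deg hG v0

theorem card_nB : (nB G v0).card = 60 := by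
  have h1 : nB G v0 = univ \ insert v0 (nA G v0) := by
    ext m
    rw [mem_nB, Finset.mem_sdiff, Finset.mem_insert, mem_nA]
    simp
  rw [h1, Finset.card_sdiff_of_subset (Finset.subset_univ _), Finset.card_univ, hG.card,
    Finset.card_insert_of_notMem v0_notMem_nA, card_nA hG]

theorem indep {x y : V} (hx : x ∈ nA G v0) (hy : y ∈ nA G v0) : ¬ G.Adj x y :=
  no_tri hG (mem_nA.mp hx) (mem_nA.mp hy)

theorem card_blk {m : V} (hm : m ∈ nB G v0) : (blk G v0 m).card = 4 := by
  rw [mem_nB] at hm
  exact nadj_common hG hm.1 (fun h => hm.2 h.symm)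

/-- each point lies in 15 blocks -/
theorem card_blocks_through {x : V} (hx : x ∈ nA G v0) :
    ((nB G v0).filter (fun m => x ∈ blk G v0 m)).card = 15 := by
  have h1 : G.neighborFinset x = insert v0 ((nB G v0).filter (fun m => x ∈ blk G v0 m)) := by
    ext y
    rw [SimpleGraph.mem_neighborFinset, Finset.mem_insert, Finset.mem_filter, mem_blk]
    constructor
    · intro h
      by_cases hy0 : y = v0
      · exact Or.inl hy0
      · right
        refine ⟨mem_nB.mpr ⟨hy0, fun h' => ?_⟩, h.symm, mem_nA.mp hx⟩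
        exact indep hG hx (mem_nA.mpr h') h
    · rintro (rfl | ⟨-, h, -⟩)
      · exact (mem_nA.mp hx).symm
      · exact h.symm
  have h2 := deg hG x
  rw [h1, Finset.card_insert_of_notMem] at h2
  · omega
  · intro h
    exact v0_notMem_nB (Finset.mem_filter.mp h).1

/-- two points lie in 3 common blocks -/
theorem card_blocks_through_two {x y : V} (hx : x ∈ nA G v0) (hy : y ∈ nA G v0) (hxy : x ≠ y) :
    ((nB G v0).filter (fun m => x ∈ blk G v0 m ∧ y ∈ blk G v0 m)).card = 3 := by
  have h1 : G.neighborFinset x ∩ G.neighborFinset y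
      = insert v0 ((nB G v0).filter (fun m => x ∈ blk G v0 m ∧ y ∈ blk G v0 m)) := by
    ext z
    rw [Finset.mem_inter, SimpleGraph.mem_neighborFinset, SimpleGraph.mem_neighborFinset,
      Finset.mem_insert, Finset.mem_filter, mem_blk, mem_blk]
    constructor
    · rintro ⟨h, h'⟩
      by_cases hz0 : z = v0
      · exact Or.inl hz0
      · right
        refine ⟨mem_nB.mpr ⟨hz0, fun h'' => ?_⟩, ⟨h.symm, mem_nA.mp hx⟩, ⟨h'.symm, mem_nA.mp hy⟩⟩
        exact indep hG hx (mem_nA.mpr h'') h
    · rintro (rfl | ⟨-, ⟨h, -⟩, ⟨h', -⟩⟩)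
      · exact ⟨(mem_nA.mp hx).symm, (mem_nA.mp hy).symm⟩
      · exact ⟨h.symm, h'.symm⟩
  have h2 := nadj_common hG hxy (indep hG hx hy)
  rw [h1, Finset.card_insert_of_notMem] at h2
  · omega
  · intro h
    exact v0_notMem_nB (Finset.mem_filter.mp h).1

/-- adjacent block vertices have disjoint blocks -/
theorem disjoint_of_adj {m m' : V} (h : G.Adj m m') : Disjoint (blk G v0 m) (blk G v0 m') := by
  rw [Finset.disjoint_iff_inter_eq_empty, ← Finset.subset_empty, ← adj_common hG h]
  exact Finset.inter_subset_inter Finset.inter_subset_left Finset.inter_subset_left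

/-- a block vertex has 12 neighbours among the block vertices -/
theorem card_adj_nB {m : V} (hm : m ∈ nB G v0) :
    ((nB G v0).filter (fun m' => G.Adj m m')).card = 12 := by
  have h1 : G.neighborFinset m = blk G v0 m ∪ (nB G v0).filter (fun m' => G.Adj m m') := by
    ext y
    rw [SimpleGraph.mem_neighborFinset, Finset.mem_union, mem_blk, Finset.mem_filter]
    constructor
    · intro h
      rcases trichotomy (G := G) (v0 := v0) y with rfl | hy | hy
      · exact absurd h.symm (mem_nB.mp hm).2
      · exact Or.inl ⟨h, mem_nA.mp hy⟩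
      · exact Or.inr ⟨hy, h⟩
    · rintro (⟨h, -⟩ | ⟨-, h⟩) <;> exact h
  have h2 := deg hG m
  rw [h1, Finset.card_union_of_disjoint, card_blk hG hm] at h2
  · omega
  · rw [Finset.disjoint_left]
    intro y hy hy'
    exact nA_nB_disjoint (blk_subset m hy) (Finset.mem_filter.mp hy').1

/-- sum of the intersection sizes with the other blocks -/
theorem sum_inter {m : V} (hm : m ∈ nB G v0) :
    ∑ m' ∈ (nB G v0).erase m, (blk G v0 m ∩ blk G v0 m').card = 56 := by
  have h1 : ∀ m' ∈ (nB G v0).erase m, (blk G v0 m ∩ blk G v0 m').card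
      = ((blk G v0 m).bipartiteAbove (fun m' x => x ∈ blk G v0 m') m').card := by
    intro m' _
    rw [Finset.bipartiteAbove, Finset.filter_mem_eq_inter]
  rw [Finset.sum_congr rfl h1, Finset.sum_card_bipartiteAbove_eq_sum_card_bipartiteBelow]
  have h2 : ∀ x ∈ blk G v0 m,
      (((nB G v0).erase m).bipartiteBelow (fun m' x => x ∈ blk G v0 m') x).card = 14 := by
    intro x hx
    have h3 : ((nB G v0).erase m).bipartiteBelow (fun m' x => x ∈ blk G v0 m') x
        = ((nB G v0).filter (fun m' => x ∈ blk G v0 m')).erase m := by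
      rw [Finset.bipartiteBelow, Finset.filter_erase]
    rw [h3, Finset.card_erase_of_mem (Finset.mem_filter.mpr ⟨hm, hx⟩),
      card_blocks_through hG (blk_subset m hx)]
  rw [Finset.sum_congr rfl h2, Finset.sum_const, card_blk hG hm]
  rfl

omit hG in
theorem offDiag_inter (s t : Finset V) :
    (s ∩ t).offDiag = s.offDiag.filter (fun p => p.1 ∈ t ∧ p.2 ∈ t) := by
  ext p
  simp only [Finset.mem_offDiag, Finset.mem_inter, Finset.mem_filter]
  tauto

/-- sum of `i (i - 1)` over the other blocks -/
theorem sum_inter_sq {m : V} (hm : m ∈ nB G v0) :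
    ∑ m' ∈ (nB G v0).erase m,
      ((blk G v0 m ∩ blk G v0 m').card * (blk G v0 m ∩ blk G v0 m').card
        - (blk G v0 m ∩ blk G v0 m').card) = 24 := by
  have h1 : ∀ m' ∈ (nB G v0).erase m,
      ((blk G v0 m ∩ blk G v0 m').card * (blk G v0 m ∩ blk G v0 m').card
        - (blk G v0 m ∩ blk G v0 m').card)
      = ((blk G v0 m).offDiag.bipartiteAbove
          (fun m' p => p.1 ∈ blk G v0 m' ∧ p.2 ∈ blk G v0 m') m').card := by
    intro m' _
    rw [Finset.bipartiteAbove, ← offDiag_inter, Finset.offDiag_card]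
  rw [Finset.sum_congr rfl h1, Finset.sum_card_bipartiteAbove_eq_sum_card_bipartiteBelow]
  have h2 : ∀ p ∈ (blk G v0 m).offDiag,
      (((nB G v0).erase m).bipartiteBelow
        (fun m' p => p.1 ∈ blk G v0 m' ∧ p.2 ∈ blk G v0 m') p).card = 2 := by
    intro p hp
    rw [Finset.mem_offDiag] at hp
    have h3 : ((nB G v0).erase m).bipartiteBelow
          (fun m' p => p.1 ∈ blk G v0 m' ∧ p.2 ∈ blk G v0 m') p
        = ((nB G v0).filter (fun m' => p.1 ∈ blk G v0 m' ∧ p.2 ∈ blk G v0 m')).erase m := by
      rw [Finset.bipartiteBelow, Finset.filter_erase]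
    rw [h3, Finset.card_erase_of_mem (Finset.mem_filter.mpr ⟨hm, hp.1, hp.2.1⟩),
      card_blocks_through_two hG (blk_subset m hp.1) (blk_subset m hp.2.1) hp.2.2]
  rw [Finset.sum_congr rfl h2, Finset.sum_const, Finset.offDiag_card, card_blk hG hm]
  rfl

end

end Cfsg.Agent.Lib.H1.S77
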