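import Cfsg.Agent.Lib.H1.S77.Hyp

/-!
# S0429, piece (F12): ovoids of the class geometry <-> cocliques of size 21 through `v0`

The three inputs (OVOID, COCL1, COCL2) enter as hypotheses `HOv`, `HC1`, `HC2`.
-/

set_option autoImplicit false
set_option linter.unusedSectionVars false
open Cfsg

namespace Cfsg.Agent.Lib.H1.S77

open Finset

section
variable {V : Type*} [Fintype V] [DecidableEq V] {G : SimpleGraph V} [DecidableRel G.Adj]
variable (G) (v0 : V)

/-- (OVOID) instantiated -/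
def HOv : Prop := ∀ K ∈ classes G v0, ((classes G v0).powerset.filter
  (fun S => S.card = 5 ∧ K ∈ S ∧ ∀ x ∈ S, ∀ y ∈ S, ¬ nonorth G x y)).card = 2

/-- (COCL1) -/
def HC1 : Prop := ∀ C : Finset V, IsHC G C → v0 ∈ C → ∀ b ∈ C, b ≠ v0 → cls G v0 b ⊆ C

/-- (COCL2) -/
def HC2 : Prop := ∀ O : Finset (Finset V), O ⊆ classes G v0 → O.card = 5 →
  (∀ K ∈ O, ∀ K' ∈ O, ¬ nonorth G K K') → IsHC G (insert v0 (O.biUnion id))

/-- the ovoids: five pairwise orthogonal classes -/
def ovoids : Finset (Finset (Finset V)) :=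
  (classes G v0).powerset.filter (fun S => S.card = 5 ∧ ∀ x ∈ S, ∀ y ∈ S, ¬ nonorth G x y)

/-- ovoid to coclique -/
def ovPhi (O : Finset (Finset V)) : Finset V := insert v0 (O.biUnion id)

/-- coclique to ovoid -/
def ovPsi (C : Finset V) : Finset (Finset V) := (classes G v0).filter (fun K => K ⊆ C)

variable {G v0}

theorem mem_ovoids {O : Finset (Finset V)} : O ∈ ovoids G v0 ↔
    O ⊆ classes G v0 ∧ O.card = 5 ∧ ∀ x ∈ O, ∀ y ∈ O, ¬ nonorth G x y := by
  rw [ovoids, Finset.mem_filter, Finset.mem_powerset]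

theorem class_subset_nB (hp : HPart G v0) {K : Finset V} (hK : K ∈ classes G v0) :
    K ⊆ nB G v0 := by
  rw [← hp.union]
  intro z hz
  exact Finset.mem_biUnion.mpr ⟨K, hK, hz⟩

theorem v0_notMem_class (hp : HPart G v0) {K : Finset V} (hK : K ∈ classes G v0) : v0 ∉ K :=
  fun h => v0_notMem_nB (class_subset_nB hp hK h)

theorem class_eq_of_mem (hp : HPart G v0) {K K' : Finset V} (hK : K ∈ classes G v0)
    (hK' : K' ∈ classes G v0) {z : V} (hz : z ∈ K) (hz' : z ∈ K') : K = K' := by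
  by_contra hne
  exact Finset.disjoint_left.mp (hp.disj K hK K' hK' hne) hz hz'

theorem card_biUnion_classes (hp : HPart G v0) {O : Finset (Finset V)} (hO : O ⊆ classes G v0) :
    (O.biUnion id).card = 4 * O.card := by
  rw [Finset.card_biUnion]
  · have h : ∀ K ∈ O, (id K).card = 4 := fun K hK => hp.card_mem K (hO hK)
    rw [Finset.sum_congr rfl h, Finset.sum_const, smul_eq_mul, mul_comm]
  · intro K hK K' hK' hne
    exact hp.disj K (hO hK) K' (hO hK') hne

theorem ovPsi_ovPhi (hp : HPart G v0) {O : Finset (Finset V)} (hO : O ∈ ovoids G v0) :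
    ovPsi G v0 (ovPhi v0 O) = O := by
  obtain ⟨hsub, -, -⟩ := mem_ovoids.mp hO
  ext K
  rw [ovPsi, Finset.mem_filter]
  constructor
  · rintro ⟨hK, hKs⟩
    have hne : K.Nonempty := by
      rw [← Finset.card_pos, hp.card_mem K hK]; norm_num
    obtain ⟨z, hz⟩ := hne
    have hz' := hKs hz
    rw [ovPhi, Finset.mem_insert] at hz'
    rcases hz' with rfl | hz'
    · exact absurd hz (v0_notMem_class hp hK)
    · obtain ⟨K', hK', hzK'⟩ := Finset.mem_biUnion.mp hz'
      rw [class_eq_of_mem hp hK (hsub hK') hz hzK']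
      exact hK'
  · intro hK
    refine ⟨hsub hK, fun z hz => ?_⟩
    rw [ovPhi, Finset.mem_insert]
    exact Or.inr (Finset.mem_biUnion.mpr ⟨K, hK, hz⟩)

theorem ovPhi_mem (h2 : HC2 G v0) {O : Finset (Finset V)}
    (hO : O ∈ ovoids G v0) : ovPhi v0 O ∈ (HC G).filter (fun C => v0 ∈ C) := by
  obtain ⟨hsub, hcard, horth⟩ := mem_ovoids.mp hO
  rw [Finset.mem_filter, mem_HC]
  exact ⟨h2 O hsub hcard horth, Finset.mem_insert_self _ _⟩

theorem ovPsi_props (hp : HPart G v0) (h1 : HC1 G v0) {C : Finset V} (hC : C ∈ (HC G).filter (fun C => v0 ∈ C)) :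
    ovPsi G v0 C ∈ ovoids G v0 ∧ ovPhi v0 (ovPsi G v0 C) = C := by
  rw [Finset.mem_filter, mem_HC] at hC
  obtain ⟨hHC, h0⟩ := hC
  have hmem : ∀ b ∈ C, b ≠ v0 → b ∈ nB G v0 ∧ cls G v0 b ⊆ C := by
    intro b hb hb0
    exact ⟨mem_nB.mpr ⟨hb0, hHC.2 v0 h0 b hb⟩, h1 C hHC h0 b hb hb0⟩
  have hsub : ovPsi G v0 C ⊆ classes G v0 := Finset.filter_subset _ _
  have hunion : (ovPsi G v0 C).biUnion id = C.erase v0 := by
    ext z
    rw [Finset.mem_biUnion, Finset.mem_erase]
    constructor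
    · rintro ⟨K, hK, hz⟩
      rw [ovPsi, Finset.mem_filter] at hK
      refine ⟨?_, hK.2 hz⟩
      rintro rfl
      exact v0_notMem_class hp hK.1 hz
    · rintro ⟨hz0, hz⟩
      obtain ⟨hzB, hcls⟩ := hmem z hz hz0
      refine ⟨cls G v0 z, ?_, self_mem_cls hzB⟩
      rw [ovPsi, Finset.mem_filter]
      exact ⟨hp.cls_mem z hzB, hcls⟩
  have hcard : (ovPsi G v0 C).card = 5 := by
    have h1 := card_biUnion_classes hp hsub
    rw [hunion, Finset.card_erase_of_mem h0, hHC.1] at h1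
    omega
  refine ⟨mem_ovoids.mpr ⟨hsub, hcard, ?_⟩, ?_⟩
  · intro K hK K' hK'
    rw [ovPsi, Finset.mem_filter] at hK hK'
    rintro ⟨z, hz, z', hz', hadj⟩
    exact hHC.2 z (hK.2 hz) z' (hK'.2 hz') hadj
  · rw [ovPhi, hunion, Finset.insert_erase h0]

theorem card_ovoids_through (hov : HOv G v0) {K : Finset V}
    (hK : K ∈ classes G v0) : ((ovoids G v0).filter (fun O => K ∈ O)).card = 2 := by
  have h := hov K hK
  rw [← h]
  congr 1
  ext O
  simp only [ovoids, Finset.mem_filter, Finset.mem_powerset]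
  tauto

theorem card_ovoids (hp : HPart G v0) (hov : HOv G v0) : (ovoids G v0).card = 6 := by
  have h1 : ∑ K ∈ classes G v0, ((ovoids G v0).filter (fun O => K ∈ O)).card = 30 := by
    rw [Finset.sum_congr rfl (fun K hK => card_ovoids_through hov hK), Finset.sum_const,
      hp.card_classes]
    rfl
  have h2 : ∑ K ∈ classes G v0, ((ovoids G v0).filter (fun O => K ∈ O)).card
      = ∑ O ∈ ovoids G v0, ((classes G v0).filter (fun K => K ∈ O)).card := by
    have := Finset.sum_card_bipartiteAbove_eq_sum_card_bipartiteBelow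
      (s := classes G v0) (t := ovoids G v0) (fun (K : Finset V) (O : Finset (Finset V)) => K ∈ O)
    simpa [Finset.bipartiteAbove, Finset.bipartiteBelow] using this
  have h3 : ∀ O ∈ ovoids G v0, ((classes G v0).filter (fun K => K ∈ O)).card = 5 := by
    intro O hO
    obtain ⟨hsub, hcard, -⟩ := mem_ovoids.mp hO
    rw [← hcard]
    congr 1
    ext K
    rw [Finset.mem_filter]
    exact ⟨fun h => h.2, fun h => ⟨hsub h, h⟩⟩
  rw [h2, Finset.sum_congr rfl h3, Finset.sum_const, smul_eq_mul] at h1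
  omega

/-- (F12) -/
theorem card_HC_through (hp : HPart G v0) (hov : HOv G v0) (h1 : HC1 G v0) (h2 : HC2 G v0) :
    ((HC G).filter (fun C => v0 ∈ C)).card = 6 ∧
    ∀ b ∈ nB G v0, ((HC G).filter (fun C => v0 ∈ C ∧ b ∈ C)).card = 2 := by
  constructor
  · rw [← card_ovoids hp hov]
    symm
    exact Finset.card_nbij' (ovPhi v0) (ovPsi G v0) (fun O hO => ovPhi_mem h2 hO)
      (fun C hC => (ovPsi_props hp h1 hC).1) (fun O hO => ovPsi_ovPhi hp hO)
      (fun C hC => (ovPsi_props hp h1 hC).2)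
  · intro b hb
    rw [← card_ovoids_through hov (hp.cls_mem b hb)]
    symm
    have hiff : ∀ C ∈ (HC G).filter (fun C => v0 ∈ C), (b ∈ C ↔ cls G v0 b ∈ ovPsi G v0 C) := by
      intro C hC
      have hC' := hC
      rw [Finset.mem_filter, mem_HC] at hC'
      rw [ovPsi, Finset.mem_filter]
      constructor
      · intro hbC
        exact ⟨hp.cls_mem b hb,
          h1 C hC'.1 hC'.2 b hbC (mem_nB.mp hb).1⟩
      · intro h
        exact h.2 (self_mem_cls hb)
    refine Finset.card_nbij' (ovPhi v0) (ovPsi G v0) ?_ ?_ ?_ ?_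
    · intro O hO
      have hO' := Finset.mem_coe.mp hO
      rw [Finset.mem_filter] at hO'
      have k1 := ovPhi_mem h2 hO'.1
      have k2 := (hiff _ k1).mpr (by rw [ovPsi_ovPhi hp hO'.1]; exact hO'.2)
      rw [Finset.mem_filter] at k1
      exact Finset.mem_coe.mpr (Finset.mem_filter.mpr ⟨k1.1, k1.2, k2⟩)
    · intro C hC
      have hC' := Finset.mem_coe.mp hC
      rw [Finset.mem_filter] at hC'
      have k1 : C ∈ (HC G).filter (fun C => v0 ∈ C) := Finset.mem_filter.mpr ⟨hC'.1, hC'.2.1⟩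
      exact Finset.mem_coe.mpr (Finset.mem_filter.mpr
        ⟨(ovPsi_props hp h1 k1).1, (hiff C k1).mp hC'.2.2⟩)
    · intro O hO
      have hO' := Finset.mem_coe.mp hO
      rw [Finset.mem_filter] at hO'
      exact ovPsi_ovPhi hp hO'.1
    · intro C hC
      have hC' := Finset.mem_coe.mp hC
      rw [Finset.mem_filter] at hC'
      exact (ovPsi_props hp h1 (Finset.mem_filter.mpr ⟨hC'.1, hC'.2.1⟩)).2

end

end Cfsg.Agent.Lib.H1.S77
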