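import Cfsg.Agent.Lib.H1.S77.Hyp

/-!
# S0429, piece (GQ): the non-orthogonality graph on the 15 classes is an srg(15,6,1,3)
-/

set_option autoImplicit false
set_option linter.unusedSectionVars false
open Cfsg

namespace Cfsg.Agent.Lib.H1.S77

open Finset

section
variable {V : Type*} [Fintype V] [DecidableEq V] (G : SimpleGraph V) [DecidableRel G.Adj]

/-- number of neighbours of `y` in `K` -/
def dd (K : Finset V) (y : V) : ℕ := (K.filter (fun z => G.Adj y z)).card

variable {G} {v0 : V}

theorem nonorth_symm {K K' : Finset V} (h : nonorth G K K') : nonorth G K' K := by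
  obtain ⟨z, hz, z', hz', hadj⟩ := h
  exact ⟨z', hz', z, hz, hadj.symm⟩

theorem class_sub_nB (hp : HPart G v0) {K : Finset V} (hK : K ∈ classes G v0) :
    K ⊆ nB G v0 := by
  rw [← hp.union]
  intro z hz
  exact Finset.mem_biUnion.mpr ⟨K, hK, hz⟩

theorem dd_eq_zero_of {K : Finset V} {y : V} (h : ∀ z ∈ K, ¬ G.Adj y z) : dd G K y = 0 := by
  rw [dd, Finset.card_eq_zero, Finset.filter_eq_empty_iff]
  exact h

theorem dd_v0 (hp : HPart G v0) {K : Finset V} (hK : K ∈ classes G v0) : dd G K v0 = 0 :=
  dd_eq_zero_of (fun z hz => (mem_nB.mp (class_sub_nB hp hK hz)).2)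

theorem dd_nA (hp : HPart G v0) {K : Finset V} (hK : K ∈ classes G v0) {a : V}
    (ha : a ∈ nA G v0) : dd G K a = 1 := hp.thru K hK a ha

theorem dd_class (hp : HPart G v0) (hd : HDich G v0) {K L : Finset V} (hK : K ∈ classes G v0)
    (hL : L ∈ classes G v0) {y : V} (hy : y ∈ L) :
    dd G K y = if nonorth G K L then 2 else 0 := by
  by_cases hKL : L = K
  · subst hKL
    rw [if_neg (hp.no_edge L hL)]
    exact dd_eq_zero_of (fun z hz hadj => hp.no_edge L hL ⟨y, hy, z, hz, hadj⟩)
  · rcases hd L hL K hK hKL with ⟨hno, -⟩ | ⟨h2, -⟩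
    · rw [if_neg (fun h => hno (nonorth_symm h))]
      exact dd_eq_zero_of (fun z hz hadj => hno ⟨y, hy, z, hz, hadj⟩)
    · have h := h2 y hy
      have hpos : 0 < (K.filter (fun z' => G.Adj y z')).card := by omega
      obtain ⟨z, hz⟩ := Finset.card_pos.mp hpos
      rw [Finset.mem_filter] at hz
      rw [if_pos ⟨z, hz.1, y, hy, hz.2.symm⟩]
      exact h

theorem sum_nB (hp : HPart G v0) (f : V → ℕ) :
    ∑ y ∈ nB G v0, f y = ∑ L ∈ classes G v0, ∑ y ∈ L, f y := by
  rw [← hp.union, Finset.sum_biUnion]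
  · rfl
  · intro K hK K' hK' hne
    exact hp.disj K hK K' hK' hne

theorem sum_univ_split (f : V → ℕ) :
    ∑ y, f y = f v0 + ∑ y ∈ nA G v0, f y + ∑ y ∈ nB G v0, f y := by
  have h1 : (univ : Finset V) = insert v0 (nA G v0 ∪ nB G v0) := by
    ext y
    simp only [Finset.mem_univ, Finset.mem_insert, Finset.mem_union, true_iff]
    exact trichotomy y
  have hdisj : Disjoint (nA G v0) (nB G v0) := by
    rw [Finset.disjoint_left]
    intro y h1 h2
    exact nA_nB_disjoint h1 h2
  rw [h1, Finset.sum_insert, Finset.sum_union hdisj, add_assoc]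
  rw [Finset.mem_union]
  rintro (h | h)
  · exact v0_notMem_nA h
  · exact v0_notMem_nB h

theorem card_common_eq_sum (z z' : V) :
    (G.neighborFinset z ∩ G.neighborFinset z').card
      = ∑ y, (if G.Adj y z then 1 else 0) * (if G.Adj y z' then 1 else 0) := by
  have h1 : G.neighborFinset z ∩ G.neighborFinset z'
      = univ.filter (fun y => G.Adj y z ∧ G.Adj y z') := by
    ext y
    simp only [Finset.mem_inter, SimpleGraph.mem_neighborFinset, Finset.mem_filter,
      Finset.mem_univ, true_and]
    constructor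
    · rintro ⟨h, h'⟩; exact ⟨h.symm, h'.symm⟩
    · rintro ⟨h, h'⟩; exact ⟨h.symm, h'.symm⟩
  rw [h1, Finset.card_filter]
  apply Finset.sum_congr rfl
  intro y _
  by_cases h : G.Adj y z <;> by_cases h' : G.Adj y z' <;> simp [h, h']

theorem dd_eq_sum (K : Finset V) (y : V) :
    dd G K y = ∑ z ∈ K, (if G.Adj y z then 1 else 0) := by
  rw [dd, Finset.card_filter]

/-- the double count -/
theorem sum_common_eq (K K' : Finset V) :
    ∑ z ∈ K, ∑ z' ∈ K', (G.neighborFinset z ∩ G.neighborFinset z').card
      = ∑ y, dd G K y * dd G K' y := by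
  simp_rw [card_common_eq_sum, dd_eq_sum, Finset.sum_mul_sum]
  rw [Finset.sum_congr rfl (fun z _ => Finset.sum_comm), Finset.sum_comm]

/-- right-hand side of the double count -/
theorem sum_dd_mul (hG : G.IsSRGWith 77 16 0 4) (hp : HPart G v0) (hd : HDich G v0)
    {K K' : Finset V} (hK : K ∈ classes G v0) (hK' : K' ∈ classes G v0) :
    ∑ y, dd G K y * dd G K' y
      = 16 + 16 * ((classes G v0).filter (fun L => nonorth G K L ∧ nonorth G K' L)).card := by
  rw [sum_univ_split (G := G) (v0 := v0), dd_v0 hp hK, zero_mul, zero_add]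
  have hA : ∑ y ∈ nA G v0, dd G K y * dd G K' y = 16 := by
    rw [Finset.sum_congr rfl (fun y hy => by rw [dd_nA hp hK hy, dd_nA hp hK' hy]),
      Finset.sum_const, card_nA hG]
    rfl
  have hB : ∑ y ∈ nB G v0, dd G K y * dd G K' y
      = 16 * ((classes G v0).filter (fun L => nonorth G K L ∧ nonorth G K' L)).card := by
    rw [sum_nB hp]
    have hL : ∀ L ∈ classes G v0, ∑ y ∈ L, dd G K y * dd G K' y
        = if nonorth G K L ∧ nonorth G K' L then 16 else 0 := by
      intro L hL
      rw [Finset.sum_congr rfl (fun y hy => by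
        rw [dd_class hp hd hK hL hy, dd_class hp hd hK' hL hy]), Finset.sum_const,
        hp.card_mem L hL]
      by_cases h1 : nonorth G K L <;> by_cases h2 : nonorth G K' L <;> simp [h1, h2]
    rw [Finset.sum_congr rfl hL, ← Finset.sum_filter, Finset.sum_const, smul_eq_mul, mul_comm]
  rw [hA, hB]

/-- left-hand side, orthogonal case -/
theorem sum_common_orth (hG : G.IsSRGWith 77 16 0 4) (hp : HPart G v0)
    {K K' : Finset V} (hK : K ∈ classes G v0) (hK' : K' ∈ classes G v0) (hne : K ≠ K')
    (hno : ¬ nonorth G K K') :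
    ∑ z ∈ K, ∑ z' ∈ K', (G.neighborFinset z ∩ G.neighborFinset z').card = 64 := by
  have h : ∀ z ∈ K, ∀ z' ∈ K', (G.neighborFinset z ∩ G.neighborFinset z').card = 4 := by
    intro z hz z' hz'
    apply nadj_common hG
    · rintro rfl
      exact Finset.disjoint_left.mp (hp.disj K hK K' hK' hne) hz hz'
    · intro hadj
      exact hno ⟨z, hz, z', hz', hadj⟩
  rw [Finset.sum_congr rfl (fun z hz => Finset.sum_congr rfl (fun z' hz' => h z hz z' hz'))]
  simp only [Finset.sum_const, smul_eq_mul, hp.card_mem K hK, hp.card_mem K' hK']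

/-- left-hand side, non-orthogonal case -/
theorem sum_common_nonorth (hG : G.IsSRGWith 77 16 0 4) (hp : HPart G v0) (hd : HDich G v0)
    {K K' : Finset V} (hK : K ∈ classes G v0) (hK' : K' ∈ classes G v0)
    (hno : nonorth G K K') :
    ∑ z ∈ K, ∑ z' ∈ K', (G.neighborFinset z ∩ G.neighborFinset z').card = 32 := by
  have hne : K ≠ K' := by
    rintro rfl
    exact hp.no_edge K hK hno
  have h2 : ∀ z ∈ K, (K'.filter (fun z' => G.Adj z z')).card = 2 := by
    rcases hd K hK K' hK' hne with ⟨h, -⟩ | ⟨h, -⟩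
    · exact absurd hno h
    · exact h
  have h : ∀ z ∈ K, ∑ z' ∈ K', (G.neighborFinset z ∩ G.neighborFinset z').card = 8 := by
    intro z hz
    have h3 : ∀ z' ∈ K', (G.neighborFinset z ∩ G.neighborFinset z').card
        = if G.Adj z z' then 0 else 4 := by
      intro z' hz'
      by_cases hadj : G.Adj z z'
      · rw [if_pos hadj, adj_common hG hadj, Finset.card_empty]
      · rw [if_neg hadj]
        apply nadj_common hG _ hadj
        rintro rfl
        exact Finset.disjoint_left.mp (hp.disj K hK K' hK' hne) hz hz'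
    rw [Finset.sum_congr rfl h3, Finset.sum_ite, Finset.sum_const, Finset.sum_const]
    have h4 := Finset.card_filter_add_card_filter_not (s := K') (fun z' => G.Adj z z')
    rw [h2 z hz, hp.card_mem K' hK'] at h4
    simp only [smul_eq_mul, mul_zero, zero_add]
    omega
  rw [Finset.sum_congr rfl h, Finset.sum_const, hp.card_mem K hK]
  rfl

/-- (GQ) -/
theorem hgq (hG : G.IsSRGWith 77 16 0 4) (hp : HPart G v0) (hd : HDich G v0) : HGQ G v0 := by
  refine ⟨fun K K' h => nonorth_symm h, ?_, ?_, ?_⟩
  · -- degree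
    intro K hK
    have h1 : ∑ z ∈ K, ((nB G v0).filter (fun m' => G.Adj z m')).card = 48 := by
      rw [Finset.sum_congr rfl (fun z hz => card_adj_nB hG (class_sub_nB hp hK hz)),
        Finset.sum_const, hp.card_mem K hK]
      rfl
    have h2 : ∀ z ∈ K, ((nB G v0).filter (fun m' => G.Adj z m')).card
        = ∑ L ∈ classes G v0, dd G L z := by
      intro z _
      rw [Finset.card_filter, sum_nB hp]
      apply Finset.sum_congr rfl
      intro L _
      rw [dd_eq_sum]
    rw [Finset.sum_congr rfl h2, Finset.sum_comm] at h1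
    have h3 : ∀ L ∈ classes G v0, ∑ z ∈ K, dd G L z = if nonorth G K L then 8 else 0 := by
      intro L hL
      rw [Finset.sum_congr rfl (fun z hz => dd_class hp hd hL hK hz), Finset.sum_const,
        hp.card_mem K hK]
      by_cases h : nonorth G K L
      · rw [if_pos h, if_pos (nonorth_symm h)]; rfl
      · rw [if_neg h, if_neg (fun h' => h (nonorth_symm h'))]; rfl
    rw [Finset.sum_congr rfl h3, ← Finset.sum_filter, Finset.sum_const, smul_eq_mul] at h1
    omega
  · -- lambda
    intro K hK K' hK' hno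
    have h1 := sum_common_nonorth hG hp hd hK hK' hno
    rw [sum_common_eq, sum_dd_mul hG hp hd hK hK'] at h1
    omega
  · -- mu
    intro K hK K' hK' hne hno
    have h1 := sum_common_orth hG hp hK hK' hne hno
    rw [sum_common_eq, sum_dd_mul hG hp hd hK hK'] at h1
    omega

end

end Cfsg.Agent.Lib.H1.S77
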