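import Cfsg.Agent.Lib.H1.S77.Base

/-!
# S0429: the interface propositions between the pieces

Each piece of `tools/blueprints/S0429.md` proves one of these propositions from earlier ones,
so that all pieces can be written independently.
-/

set_option autoImplicit false
set_option linter.unusedSectionVars false
open Cfsg

namespace Cfsg.Agent.Lib.H1.S77

open Finset

section
variable {V : Type*} [Fintype V] [DecidableEq V] (G : SimpleGraph V) [DecidableRel G.Adj]

/-- number of ordered adjacent pairs `(x, y)` with `x ∈ S`, `y ∈ T` -/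
def ee (S T : Finset V) : ℤ := ∑ x ∈ S, ((G.neighborFinset x ∩ T).card : ℤ)

/-- the quadratic form of `22 I - 11 A + 2 J` is non-negative -/
def HPsd : Prop := ∀ w : V → ℤ,
  0 ≤ 22 * ∑ x, w x ^ 2 - 11 * ∑ x, ∑ y ∈ G.neighborFinset x, w x * w y + 2 * (∑ x, w x) ^ 2

/-- the same for weights constant on pairwise disjoint groups -/
def HPsdFam : Prop := ∀ (k : ℕ) (S : Fin k → Finset V), (∀ i j, i ≠ j → Disjoint (S i) (S j)) →
  ∀ c : Fin k → ℤ,
  0 ≤ 22 * ∑ i, c i ^ 2 * ((S i).card : ℤ) - 11 * ∑ i, ∑ j, c i * c j * ee G (S i) (S j)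
      + 2 * (∑ i, c i * ((S i).card : ℤ)) ^ 2

/-- three pairwise non-adjacent vertices have at most two common neighbours -/
def HT2 : Prop := ∀ x y z : V, x ≠ y → x ≠ z → y ≠ z → ¬ G.Adj x y → ¬ G.Adj x z → ¬ G.Adj y z →
  (G.neighborFinset x ∩ G.neighborFinset y ∩ G.neighborFinset z).card ≤ 2

variable (v0 : V)

/-- two blocks meet in at most two points -/
def HI2 : Prop := ∀ b ∈ nB G v0, ∀ b' ∈ nB G v0, b' ≠ b →
  (blk G v0 b ∩ blk G v0 b').card ≤ 2

/-- classes have four elements -/
def HCard : Prop := ∀ b ∈ nB G v0, (cls G v0 b).card = 4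

/-- no edges inside a class -/
def HNadj : Prop := ∀ b ∈ nB G v0, ∀ z ∈ cls G v0 b, ∀ w ∈ cls G v0 b, ¬ G.Adj z w

/-- the blocks of a class are pairwise disjoint -/
def HDisj : Prop := ∀ b ∈ nB G v0, ∀ z ∈ cls G v0 b, ∀ w ∈ cls G v0 b, z ≠ w →
  Disjoint (blk G v0 z) (blk G v0 w)

/-- the classes are the classes of an equivalence relation -/
def HClsEq : Prop := ∀ b ∈ nB G v0, ∀ z ∈ cls G v0 b, cls G v0 z = cls G v0 b

/-- the blocks of a class partition the points: every point has exactly one neighbour in it -/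
def HThru : Prop := ∀ b ∈ nB G v0, ∀ a ∈ nA G v0,
  ((cls G v0 b).filter (fun z => a ∈ blk G v0 z)).card = 1

/-- a neighbour `c` of `b` and a mate `z` of `b`: adjacent, or blocks meeting in two points -/
def HL5 : Prop := ∀ b ∈ nB G v0, ∀ c ∈ nB G v0, G.Adj b c → ∀ z ∈ cls G v0 b, z ≠ b →
  (G.Adj c z ∧ (blk G v0 c ∩ blk G v0 z).card = 0) ∨
  (¬ G.Adj c z ∧ (blk G v0 c ∩ blk G v0 z).card = 2)

/-- two distinct classes are orthogonal (no edges, all blocks meet in one point) or every vertex of
one has exactly two neighbours in the other -/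
def HDich : Prop := ∀ K ∈ classes G v0, ∀ K' ∈ classes G v0, K ≠ K' →
  (¬ nonorth G K K' ∧ ∀ z ∈ K, ∀ z' ∈ K', (blk G v0 z ∩ blk G v0 z').card = 1) ∨
  ((∀ z ∈ K, (K'.filter (fun z' => G.Adj z z')).card = 2) ∧
   (∀ z' ∈ K', (K.filter (fun z => G.Adj z z')).card = 2))

/-- the partition of the block vertices into 15 classes of size 4 -/
structure HPart : Prop where
  card_classes : (classes G v0).card = 15
  card_mem : ∀ K ∈ classes G v0, K.card = 4
  disj : ∀ K ∈ classes G v0, ∀ K' ∈ classes G v0, K ≠ K' → Disjoint K K'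
  union : (classes G v0).biUnion id = nB G v0
  cls_mem : ∀ b ∈ nB G v0, cls G v0 b ∈ classes G v0
  eq_cls : ∀ K ∈ classes G v0, ∀ z ∈ K, K = cls G v0 z
  no_edge : ∀ K ∈ classes G v0, ¬ nonorth G K K
  thru : ∀ K ∈ classes G v0, ∀ a ∈ nA G v0, (K.filter (fun z => G.Adj a z)).card = 1

/-- the non-orthogonality graph on the classes is strongly regular (15, 6, 1, 3) -/
structure HGQ : Prop where
  symm : ∀ K K', nonorth G K K' → nonorth G K' K
  deg : ∀ K ∈ classes G v0, ((classes G v0).filter (fun K' => nonorth G K K')).card = 6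
  lam : ∀ K ∈ classes G v0, ∀ K' ∈ classes G v0, nonorth G K K' →
    ((classes G v0).filter (fun L => nonorth G K L ∧ nonorth G K' L)).card = 1
  mu : ∀ K ∈ classes G v0, ∀ K' ∈ classes G v0, K ≠ K' → ¬ nonorth G K K' →
    ((classes G v0).filter (fun L => nonorth G K L ∧ nonorth G K' L)).card = 3

/-- Hoffman: a vertex outside a coclique of size 21 has exactly six neighbours in it -/
def HHoff : Prop := ∀ C : Finset V, IsHC G C → ∀ y, y ∉ C → (G.neighborFinset y ∩ C).card = 6

/-- every vertex lies in exactly six cocliques of size 21 -/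
def HF1 : Prop := ∀ v : V, ((HC G).filter (fun C => v ∈ C)).card = 6

/-- two distinct non-adjacent vertices lie in exactly two common cocliques of size 21 -/
def HF2 : Prop := ∀ v w : V, v ≠ w → ¬ G.Adj v w → ((HC G).filter (fun C => v ∈ C ∧ w ∈ C)).card = 2

end

end Cfsg.Agent.Lib.H1.S77
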