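import Cfsg.Agent.Lib.H1.S77.Hyp

/-!
# S0429, piece (L5): a neighbour `c` of `b` and a mate `z` of `b`
-/

set_option autoImplicit false
set_option linter.unusedSectionVars false
open Cfsg

namespace Cfsg.Agent.Lib.H1.S77

open Finset

section
variable {V : Type*} [Fintype V] [DecidableEq V] {G : SimpleGraph V} [DecidableRel G.Adj]
variable {v0 : V}

/-- common neighbours of a point `a ∉ blk b` and a block vertex `b` are block vertices -/
theorem common_pt_blk (hG : G.IsSRGWith 77 16 0 4) {a b : V} (ha : a ∈ nA G v0)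
    (hb : b ∈ nB G v0) (hab : a ∉ blk G v0 b) :
    ((nB G v0).filter (fun c => G.Adj b c ∧ a ∈ blk G v0 c)).card = 4 := by
  have hnadj : ¬ G.Adj a b := fun h => hab (mem_blk.mpr ⟨h.symm, mem_nA.mp ha⟩)
  have hne : a ≠ b := by
    rintro rfl
    exact nA_nB_disjoint ha hb
  rw [← nadj_common hG hne hnadj]
  congr 1
  ext y
  simp only [Finset.mem_filter, Finset.mem_inter, SimpleGraph.mem_neighborFinset, mem_blk]
  constructor
  · rintro ⟨-, h1, h2, -⟩
    exact ⟨h2.symm, h1⟩
  · rintro ⟨h1, h2⟩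
    refine ⟨?_, h2, h1.symm, mem_nA.mp ha⟩
    rcases trichotomy (G := G) (v0 := v0) y with rfl | hy | hy
    · exact absurd h2.symm (mem_nB.mp hb).2
    · exact absurd h1 (indep hG ha hy)
    · exact hy

/-- common neighbours of two block vertices with disjoint blocks are block vertices -/
theorem common_blk_blk (hG : G.IsSRGWith 77 16 0 4) {b z : V} (hb : b ∈ nB G v0)
    (hne : b ≠ z) (hnadj : ¬ G.Adj b z)
    (hdisj : Disjoint (blk G v0 b) (blk G v0 z)) :
    ((nB G v0).filter (fun c => G.Adj b c ∧ G.Adj c z)).card = 4 := by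
  rw [← nadj_common hG hne hnadj]
  congr 1
  ext y
  simp only [Finset.mem_filter, Finset.mem_inter, SimpleGraph.mem_neighborFinset]
  constructor
  · rintro ⟨-, h1, h2⟩
    exact ⟨h1, h2.symm⟩
  · rintro ⟨h1, h2⟩
    refine ⟨?_, h1, h2.symm⟩
    rcases trichotomy (G := G) (v0 := v0) y with rfl | hy | hy
    · exact absurd h1.symm (mem_nB.mp hb).2
    · exact absurd (mem_blk.mpr ⟨h2, mem_nA.mp hy⟩)
        (Finset.disjoint_left.mp hdisj (mem_blk.mpr ⟨h1, mem_nA.mp hy⟩))
    · exact hy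

/-- (L5) -/
theorem hl5 (hG : G.IsSRGWith 77 16 0 4) (h2 : HI2 G v0) : HL5 G v0 := by
  intro b hb c hc hbc z hz hzb
  obtain ⟨hzB, hz'⟩ := mem_cls.mp hz
  obtain ⟨hnadj, hdisj⟩ : ¬ G.Adj b z ∧ Disjoint (blk G v0 b) (blk G v0 z) := by
    rcases hz' with h | h
    · exact absurd h hzb
    · exact h
  -- the neighbours of `b` among the block vertices
  obtain ⟨Cb, hCb⟩ : ∃ Cb, Cb = (nB G v0).filter (fun c => G.Adj b c) := ⟨_, rfl⟩
  have hCb_card : Cb.card = 12 := by rw [hCb]; exact card_adj_nB hG hb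
  -- (i) the sum of the intersection numbers
  have hsum : ∑ c ∈ Cb, (blk G v0 c ∩ blk G v0 z).card = 16 := by
    have h1 : ∀ c ∈ Cb, (blk G v0 c ∩ blk G v0 z).card
        = ((blk G v0 z).bipartiteAbove (fun c a => a ∈ blk G v0 c) c).card := by
      intro c _
      rw [Finset.bipartiteAbove, Finset.inter_comm, Finset.filter_mem_eq_inter]
    rw [Finset.sum_congr rfl h1, Finset.sum_card_bipartiteAbove_eq_sum_card_bipartiteBelow]
    have h3 : ∀ a ∈ blk G v0 z,
        (Cb.bipartiteBelow (fun c a => a ∈ blk G v0 c) a).card = 4 := by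
      intro a ha
      have haA : a ∈ nA G v0 := blk_subset z ha
      have hab : a ∉ blk G v0 b := fun h => Finset.disjoint_left.mp hdisj h ha
      rw [← common_pt_blk hG haA hb hab, Finset.bipartiteBelow, hCb, Finset.filter_filter]
    rw [Finset.sum_congr rfl h3, Finset.sum_const, card_blk hG hzB]
    rfl
  -- (ii) four of them are adjacent to `z`
  have hadj4 : (Cb.filter (fun c => G.Adj c z)).card = 4 := by
    rw [← common_blk_blk hG hb (Ne.symm hzb) hnadj hdisj, hCb, Finset.filter_filter]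
  have hnadj8 : (Cb.filter (fun c => ¬ G.Adj c z)).card = 8 := by
    have := Finset.card_filter_add_card_filter_not (s := Cb) (fun c => G.Adj c z)
    omega
  -- (iii)
  have hzero : ∀ c ∈ Cb, G.Adj c z → (blk G v0 c ∩ blk G v0 z).card = 0 := by
    intro c _ h
    rw [Finset.card_eq_zero, ← Finset.disjoint_iff_inter_eq_empty]
    exact disjoint_of_adj hG h
  have hle : ∀ c ∈ Cb.filter (fun c => ¬ G.Adj c z), (blk G v0 c ∩ blk G v0 z).card ≤ 2 := by
    intro c hc'
    rw [Finset.mem_filter, hCb, Finset.mem_filter] at hc'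
    apply h2 c hc'.1.1 z hzB
    rintro rfl
    exact hnadj hc'.1.2
  have hsum' : ∑ c ∈ Cb.filter (fun c => ¬ G.Adj c z), (blk G v0 c ∩ blk G v0 z).card = 16 := by
    rw [← hsum, Finset.sum_filter_of_ne]
    intro c hc' hne
    intro h
    exact hne (hzero c hc' h)
  have hall : ∀ c ∈ Cb.filter (fun c => ¬ G.Adj c z), (blk G v0 c ∩ blk G v0 z).card = 2 := by
    have hconst : ∑ c ∈ Cb.filter (fun c => ¬ G.Adj c z), (blk G v0 c ∩ blk G v0 z).card
        = ∑ _c ∈ Cb.filter (fun c => ¬ G.Adj c z), 2 := by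
      rw [hsum', Finset.sum_const, hnadj8]
      rfl
    exact (Finset.sum_eq_sum_iff_of_le hle).mp hconst
  have hcCb : c ∈ Cb := by
    rw [hCb, Finset.mem_filter]
    exact ⟨hc, hbc⟩
  by_cases hcz : G.Adj c z
  · exact Or.inl ⟨hcz, hzero c hcCb hcz⟩
  · exact Or.inr ⟨hcz, hall c (Finset.mem_filter.mpr ⟨hcCb, hcz⟩)⟩

end

end Cfsg.Agent.Lib.H1.S77
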