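import Mathlib

/-!
# S0429, piece (OVOID): in an srg(15,6,1,3), given as a finset with a relation, every vertex lies
in exactly two cocliques of size 5.

Route ("claw"): for non-adjacent `x ≠ y` let `M` be the 3 common neighbours and `W` the 4 vertices
adjacent to neither.  `W` spans 3 edges, all at one vertex `c`; so `{x,y} ∪ (W \ {c})` is the unique
5-coclique through `x, y`.  Then count.
-/

set_option autoImplicit false
set_option linter.unusedSectionVars false

namespace Cfsg.Agent.Lib.H1.S77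

open Finset

/-- the hypotheses: an srg(15,6,1,3) on the finset `K` -/
structure GQ15 {U : Type*} [DecidableEq U] (K : Finset U) (R : U → U → Prop) [DecidableRel R] :
    Prop where
  symm : ∀ a b, R a b → R b a
  irr : ∀ a ∈ K, ¬ R a a
  card : K.card = 15
  deg : ∀ a ∈ K, (K.filter (fun c => R a c)).card = 6
  lam : ∀ a ∈ K, ∀ b ∈ K, R a b → (K.filter (fun c => R a c ∧ R b c)).card = 1
  mu : ∀ a ∈ K, ∀ b ∈ K, a ≠ b → ¬ R a b → (K.filter (fun c => R a c ∧ R b c)).card = 3

section
variable {U : Type*} [DecidableEq U] {K : Finset U} {R : U → U → Prop} [DecidableRel R]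

/-- two adjacent vertices cannot have two different common neighbours -/
theorem GQ15.two_common (h : GQ15 K R) {a b c d : U} (ha : a ∈ K) (hb : b ∈ K) (hab : R a b)
    (hc : c ∈ K) (hd : d ∈ K) (hcd : c ≠ d) (hac : R a c) (hbc : R b c) (had : R a d)
    (hbd : R b d) : False := by
  have h1 := h.lam a ha b hb hab
  have h2 : ({c, d} : Finset U) ⊆ K.filter (fun c => R a c ∧ R b c) := by
    intro z hz
    rw [Finset.mem_insert, Finset.mem_singleton] at hz
    rw [Finset.mem_filter]
    rcases hz with rfl | rfl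
    · exact ⟨hc, hac, hbc⟩
    · exact ⟨hd, had, hbd⟩
  have h3 := Finset.card_le_card h2
  rw [Finset.card_pair hcd, h1] at h3
  omega

/-- the vertices adjacent to neither `x` nor `y` -/
def wSet (K : Finset U) (R : U → U → Prop) [DecidableRel R] (x y : U) : Finset U :=
  K.filter (fun z => z ≠ x ∧ z ≠ y ∧ ¬ R x z ∧ ¬ R y z)

/-- the common neighbours -/
def mSet (K : Finset U) (R : U → U → Prop) [DecidableRel R] (x y : U) : Finset U :=
  K.filter (fun c => R x c ∧ R y c)

theorem mem_wSet {x y z : U} : z ∈ wSet K R x y ↔ z ∈ K ∧ z ≠ x ∧ z ≠ y ∧ ¬ R x z ∧ ¬ R y z := by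
  rw [wSet, Finset.mem_filter]

theorem mem_mSet {x y z : U} : z ∈ mSet K R x y ↔ z ∈ K ∧ R x z ∧ R y z := by
  rw [mSet, Finset.mem_filter]

theorem GQ15.card_wSet (h : GQ15 K R) {x y : U} (hx : x ∈ K) (hy : y ∈ K) (hxy : x ≠ y)
    (hn : ¬ R x y) : (wSet K R x y).card = 4 := by
  have hn' : ¬ R y x := fun h' => hn (h.symm _ _ h')
  have h1 := Finset.card_filter_add_card_filter_not (s := K) (fun z => R x z ∨ R y z)
  have h2 : K.filter (fun z => R x z ∨ R y z)
      = K.filter (fun z => R x z) ∪ K.filter (fun z => R y z) := Finset.filter_or _ _ _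
  have h3 : K.filter (fun z => R x z) ∩ K.filter (fun z => R y z)
      = K.filter (fun z => R x z ∧ R y z) := by
    rw [Finset.filter_and]
  have h4 := Finset.card_union_add_card_inter (K.filter (fun z => R x z))
    (K.filter (fun z => R y z))
  rw [h3, h.mu x hx y hy hxy hn, h.deg x hx, h.deg y hy, ← h2] at h4
  have h5 : K.filter (fun z => ¬ (R x z ∨ R y z)) = insert x (insert y (wSet K R x y)) := by
    ext z
    simp only [Finset.mem_filter, Finset.mem_insert, mem_wSet, not_or]
    constructor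
    · rintro ⟨hz, h1, h2⟩
      by_cases hzx : z = x
      · exact Or.inl hzx
      · by_cases hzy : z = y
        · exact Or.inr (Or.inl hzy)
        · exact Or.inr (Or.inr ⟨hz, hzx, hzy, h1, h2⟩)
    · rintro (rfl | rfl | ⟨hz, -, -, h1, h2⟩)
      · exact ⟨hx, h.irr _ hx, hn'⟩
      · exact ⟨hy, hn, h.irr _ hy⟩
      · exact ⟨hz, h1, h2⟩
  have h6 : (insert x (insert y (wSet K R x y))).card = (wSet K R x y).card + 2 := by
    rw [Finset.card_insert_of_notMem, Finset.card_insert_of_notMem]
    · intro h'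
      exact (mem_wSet.mp h').2.2.1 rfl
    · rw [Finset.mem_insert]
      rintro (h' | h')
      · exact hxy h'
      · exact (mem_wSet.mp h').2.1 rfl
  rw [h5, h6, h.card] at h1
  omega

/-- the common neighbours of two non-adjacent vertices are pairwise non-adjacent -/
theorem GQ15.mSet_coclique (h : GQ15 K R) {x y : U} (hx : x ∈ K) (hy : y ∈ K) (hxy : x ≠ y)
    {m m' : U} (hm : m ∈ mSet K R x y) (hm' : m' ∈ mSet K R x y) : ¬ R m m' := by
  intro hmm
  rw [mem_mSet] at hm hm'
  exact h.two_common hm.1 hm'.1 hmm hx hy hxy (h.symm _ _ hm.2.1) (h.symm _ _ hm'.2.1)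
    (h.symm _ _ hm.2.2) (h.symm _ _ hm'.2.2)

/-- a common neighbour has exactly two neighbours in `W` -/
theorem GQ15.card_wSet_nb (h : GQ15 K R) {x y : U} (hx : x ∈ K) (hy : y ∈ K) (hxy : x ≠ y)
    (hn : ¬ R x y) {m : U} (hm : m ∈ mSet K R x y) :
    ((wSet K R x y).filter (fun z => R m z)).card = 2 := by
  have hn' : ¬ R y x := fun h' => hn (h.symm _ _ h')
  obtain ⟨hmK, hxm, hym⟩ := mem_mSet.mp hm
  have hmx : R m x := h.symm _ _ hxm
  have hmy : R m y := h.symm _ _ hym
  have h1 := Finset.card_filter_add_card_filter_not (s := K.filter (fun z => R m z))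
    (fun z => R x z ∨ R y z)
  rw [h.deg m hmK] at h1
  have h2 : (K.filter (fun z => R m z)).filter (fun z => R x z ∨ R y z)
      = K.filter (fun z => R m z ∧ R x z) ∪ K.filter (fun z => R m z ∧ R y z) := by
    ext z
    simp only [Finset.mem_filter, Finset.mem_union]
    tauto
  have h3 : Disjoint (K.filter (fun z => R m z ∧ R x z)) (K.filter (fun z => R m z ∧ R y z)) := by
    rw [Finset.disjoint_left]
    intro z hz hz'
    rw [Finset.mem_filter] at hz hz'
    exact h.mSet_coclique hx hy hxy hm (mem_mSet.mpr ⟨hz.1, hz.2.2, hz'.2.2⟩) hz.2.1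
  have h4 : (K.filter (fun z => R m z)).filter (fun z => ¬ (R x z ∨ R y z))
      = insert x (insert y ((wSet K R x y).filter (fun z => R m z))) := by
    ext z
    simp only [Finset.mem_filter, Finset.mem_insert, mem_wSet, not_or]
    constructor
    · rintro ⟨⟨hz, hmz⟩, h1, h2⟩
      by_cases hzx : z = x
      · exact Or.inl hzx
      · by_cases hzy : z = y
        · exact Or.inr (Or.inl hzy)
        · exact Or.inr (Or.inr ⟨⟨hz, hzx, hzy, h1, h2⟩, hmz⟩)
    · rintro (rfl | rfl | ⟨⟨hz, -, -, h1, h2⟩, hmz⟩)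
      · exact ⟨⟨hx, hmx⟩, h.irr _ hx, hn'⟩
      · exact ⟨⟨hy, hmy⟩, hn, h.irr _ hy⟩
      · exact ⟨⟨hz, hmz⟩, h1, h2⟩
  have h5 : (insert x (insert y ((wSet K R x y).filter (fun z => R m z)))).card
      = ((wSet K R x y).filter (fun z => R m z)).card + 2 := by
    rw [Finset.card_insert_of_notMem, Finset.card_insert_of_notMem]
    · intro h'
      exact (mem_wSet.mp (Finset.mem_filter.mp h').1).2.2.1 rfl
    · rw [Finset.mem_insert]
      rintro (h' | h')
      · exact hxy h'
      · exact (mem_wSet.mp (Finset.mem_filter.mp h').1).2.1 rfl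
  rw [h2, Finset.card_union_of_disjoint h3, h.lam m hmK x hx hmx, h.lam m hmK y hy hmy, h4, h5]
    at h1
  omega

/-- two common neighbours have exactly one common neighbour in `W` -/
theorem GQ15.card_wSet_nb_two (h : GQ15 K R) {x y : U} (hx : x ∈ K) (hy : y ∈ K) (hxy : x ≠ y)
    (hn : ¬ R x y) {m m' : U} (hm : m ∈ mSet K R x y) (hm' : m' ∈ mSet K R x y)
    (hmm : m ≠ m') : ((wSet K R x y).filter (fun z => R m z ∧ R m' z)).card = 1 := by
  have hn' : ¬ R y x := fun h' => hn (h.symm _ _ h')
  obtain ⟨hmK, hxm, hym⟩ := mem_mSet.mp hm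
  obtain ⟨hmK', hxm', hym'⟩ := mem_mSet.mp hm'
  have h1 := h.mu m hmK m' hmK' hmm (h.mSet_coclique hx hy hxy hm hm')
  have h2 : K.filter (fun c => R m c ∧ R m' c)
      = insert x (insert y ((wSet K R x y).filter (fun z => R m z ∧ R m' z))) := by
    ext z
    simp only [Finset.mem_filter, Finset.mem_insert, mem_wSet]
    constructor
    · rintro ⟨hz, hmz, hmz'⟩
      by_cases hzx : z = x
      · exact Or.inl hzx
      · by_cases hzy : z = y
        · exact Or.inr (Or.inl hzy)
        · refine Or.inr (Or.inr ⟨⟨hz, hzx, hzy, ?_, ?_⟩, hmz, hmz'⟩)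
          · intro hxz
            exact h.two_common hx hz hxz hmK hmK' hmm hxm (h.symm _ _ hmz) hxm'
              (h.symm _ _ hmz')
          · intro hyz
            exact h.two_common hy hz hyz hmK hmK' hmm hym (h.symm _ _ hmz) hym'
              (h.symm _ _ hmz')
    · rintro (rfl | rfl | ⟨⟨hz, -, -, -, -⟩, hmz, hmz'⟩)
      · exact ⟨hx, h.symm _ _ hxm, h.symm _ _ hxm'⟩
      · exact ⟨hy, h.symm _ _ hym, h.symm _ _ hym'⟩
      · exact ⟨hz, hmz, hmz'⟩
  have h3 : (insert x (insert y ((wSet K R x y).filter (fun z => R m z ∧ R m' z)))).card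
      = ((wSet K R x y).filter (fun z => R m z ∧ R m' z)).card + 2 := by
    rw [Finset.card_insert_of_notMem, Finset.card_insert_of_notMem]
    · intro h'
      exact (mem_wSet.mp (Finset.mem_filter.mp h').1).2.2.1 rfl
    · rw [Finset.mem_insert]
      rintro (h' | h')
      · exact hxy h'
      · exact (mem_wSet.mp (Finset.mem_filter.mp h').1).2.1 rfl
  rw [h2, h3] at h1
  omega

/-- for `w ∈ W`: the number of neighbours in `W` equals the number of neighbours in `M` -/
theorem GQ15.deg_wSet (h : GQ15 K R) {x y : U} (hx : x ∈ K) (hy : y ∈ K)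
    {w : U} (hw : w ∈ wSet K R x y) :
    ((wSet K R x y).filter (fun z => R w z)).card = ((mSet K R x y).filter (fun z => R w z)).card := by
  obtain ⟨hwK, hwx, hwy, hxw, hyw⟩ := mem_wSet.mp hw
  have hwx' : ¬ R w x := fun h' => hxw (h.symm _ _ h')
  have hwy' : ¬ R w y := fun h' => hyw (h.symm _ _ h')
  have h1 := Finset.card_filter_add_card_filter_not (s := K.filter (fun z => R w z))
    (fun z => R x z ∨ R y z)
  rw [h.deg w hwK] at h1
  have h2 : (K.filter (fun z => R w z)).filter (fun z => R x z ∨ R y z)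
      = K.filter (fun z => R w z ∧ R x z) ∪ K.filter (fun z => R w z ∧ R y z) := by
    ext z
    simp only [Finset.mem_filter, Finset.mem_union]
    tauto
  have h3 : K.filter (fun z => R w z ∧ R x z) ∩ K.filter (fun z => R w z ∧ R y z)
      = (mSet K R x y).filter (fun z => R w z) := by
    ext z
    simp only [Finset.mem_filter, Finset.mem_inter, mem_mSet]
    tauto
  have h4 : (K.filter (fun z => R w z)).filter (fun z => ¬ (R x z ∨ R y z))
      = (wSet K R x y).filter (fun z => R w z) := by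
    ext z
    simp only [Finset.mem_filter, mem_wSet, not_or]
    constructor
    · rintro ⟨⟨hz, hwz⟩, h1, h2⟩
      refine ⟨⟨hz, ?_, ?_, h1, h2⟩, hwz⟩
      · rintro rfl; exact hwx' hwz
      · rintro rfl; exact hwy' hwz
    · rintro ⟨⟨hz, -, -, h1, h2⟩, hwz⟩
      exact ⟨⟨hz, hwz⟩, h1, h2⟩
  have h5 := Finset.card_union_add_card_inter (K.filter (fun z => R w z ∧ R x z))
    (K.filter (fun z => R w z ∧ R y z))
  rw [h3, h.mu w hwK x hx hwx hwx', h.mu w hwK y hy hwy hwy'] at h5
  rw [h2, h4] at h1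
  omega

theorem GQ15.mSet_wSet_disjoint {x y : U} : Disjoint (mSet K R x y) (wSet K R x y) := by
  rw [Finset.disjoint_left]
  intro z hz hz'
  exact (mem_wSet.mp hz').2.2.2.1 (mem_mSet.mp hz).2.1

/-- `inc w`: number of neighbours of `w` in `M` -/
def inc (K : Finset U) (R : U → U → Prop) [DecidableRel R] (x y w : U) : ℕ :=
  ((mSet K R x y).filter (fun z => R w z)).card

theorem GQ15.inc_le (h : GQ15 K R) {x y : U} (hx : x ∈ K) (hy : y ∈ K) (hxy : x ≠ y)
    (hn : ¬ R x y) (w : U) : inc K R x y w ≤ 3 := by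
  have h1 : (mSet K R x y).card = 3 := h.mu x hx y hy hxy hn
  rw [← h1]
  exact Finset.card_filter_le _ _

theorem GQ15.sum_inc (h : GQ15 K R) {x y : U} (hx : x ∈ K) (hy : y ∈ K) (hxy : x ≠ y)
    (hn : ¬ R x y) : ∑ w ∈ wSet K R x y, inc K R x y w = 6 := by
  have h1 : ∀ w ∈ wSet K R x y, inc K R x y w
      = ((mSet K R x y).bipartiteBelow (fun m w => R m w) w).card := by
    intro w _
    rw [inc, Finset.bipartiteBelow]
    congr 1
    apply Finset.filter_congr
    intro z _
    exact ⟨fun h' => h.symm _ _ h', fun h' => h.symm _ _ h'⟩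
  rw [Finset.sum_congr rfl h1, ← Finset.sum_card_bipartiteAbove_eq_sum_card_bipartiteBelow]
  have h2 : ∀ m ∈ mSet K R x y,
      ((wSet K R x y).bipartiteAbove (fun m w => R m w) m).card = 2 := by
    intro m hm
    rw [Finset.bipartiteAbove]
    exact h.card_wSet_nb hx hy hxy hn hm
  rw [Finset.sum_congr rfl h2, Finset.sum_const, show (mSet K R x y).card = 3 from
    h.mu x hx y hy hxy hn]
  rfl

theorem GQ15.sum_inc_sq (h : GQ15 K R) {x y : U} (hx : x ∈ K) (hy : y ∈ K) (hxy : x ≠ y)
    (hn : ¬ R x y) :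
    ∑ w ∈ wSet K R x y, (inc K R x y w * inc K R x y w - inc K R x y w) = 6 := by
  have h1 : ∀ w ∈ wSet K R x y, (inc K R x y w * inc K R x y w - inc K R x y w)
      = ((mSet K R x y).offDiag.bipartiteBelow (fun p w => R p.1 w ∧ R p.2 w) w).card := by
    intro w _
    rw [inc, ← Finset.offDiag_card, Finset.bipartiteBelow]
    congr 1
    ext p
    simp only [Finset.mem_offDiag, Finset.mem_filter]
    constructor
    · rintro ⟨⟨h1, h2⟩, ⟨h3, h4⟩, h5⟩
      exact ⟨⟨h1, h3, h5⟩, h.symm _ _ h2, h.symm _ _ h4⟩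
    · rintro ⟨⟨h1, h3, h5⟩, h2, h4⟩
      exact ⟨⟨h1, h.symm _ _ h2⟩, ⟨h3, h.symm _ _ h4⟩, h5⟩
  rw [Finset.sum_congr rfl h1, ← Finset.sum_card_bipartiteAbove_eq_sum_card_bipartiteBelow]
  have h2 : ∀ p ∈ (mSet K R x y).offDiag,
      ((wSet K R x y).bipartiteAbove (fun p w => R p.1 w ∧ R p.2 w) p).card = 1 := by
    intro p hp
    rw [Finset.mem_offDiag] at hp
    rw [Finset.bipartiteAbove]
    exact h.card_wSet_nb_two hx hy hxy hn hp.1 hp.2.1 hp.2.2
  rw [Finset.sum_congr rfl h2, Finset.sum_const, Finset.offDiag_card,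
    show (mSet K R x y).card = 3 from h.mu x hx y hy hxy hn]
  rfl

/-- existence of the centre of the claw -/
theorem GQ15.exists_centre (h : GQ15 K R) {x y : U} (hx : x ∈ K) (hy : y ∈ K) (hxy : x ≠ y)
    (hn : ¬ R x y) : ∃ c ∈ wSet K R x y, inc K R x y c = 3 := by
  by_contra hno'
  have hno : ∀ w ∈ wSet K R x y, inc K R x y w ≠ 3 := fun w hw h3 => hno' ⟨w, hw, h3⟩
  have hle2 : ∀ w ∈ wSet K R x y, inc K R x y w ≤ 2 := by
    intro w hw
    have := h.inc_le hx hy hxy hn w
    have := hno w hw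
    omega
  -- every inc is 0 or 2
  have hle : ∀ w ∈ wSet K R x y,
      inc K R x y w * inc K R x y w - inc K R x y w ≤ inc K R x y w := by
    intro w hw
    have := hle2 w hw
    interval_cases (inc K R x y w) <;> simp
  have heq : ∑ w ∈ wSet K R x y, (inc K R x y w * inc K R x y w - inc K R x y w)
      = ∑ w ∈ wSet K R x y, inc K R x y w := by
    rw [h.sum_inc hx hy hxy hn, h.sum_inc_sq hx hy hxy hn]
  have h02 : ∀ w ∈ wSet K R x y, inc K R x y w = 0 ∨ inc K R x y w = 2 := by
    intro w hw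
    have h1 := (Finset.sum_eq_sum_iff_of_le hle).mp heq w hw
    have := hle2 w hw
    interval_cases (inc K R x y w) <;> simp at h1 ⊢
  -- the set of vertices with inc = 2 has three elements
  obtain ⟨T, hT⟩ : ∃ T, T = (wSet K R x y).filter (fun w => inc K R x y w = 2) := ⟨_, rfl⟩
  have hTcard : T.card = 3 := by
    have h1 := h.sum_inc hx hy hxy hn
    have h2 : ∑ w ∈ wSet K R x y, inc K R x y w = ∑ w ∈ T, 2 := by
      rw [hT, Finset.sum_filter]
      apply Finset.sum_congr rfl
      intro w hw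
      rcases h02 w hw with h' | h' <;> simp [h']
    rw [h2, Finset.sum_const, smul_eq_mul] at h1
    omega
  have hTW : T ⊆ wSet K R x y := by rw [hT]; exact Finset.filter_subset _ _
  -- neighbours in W of a vertex of T are the other two vertices of T
  have hnb : ∀ w ∈ T, (wSet K R x y).filter (fun z => R w z) = T.erase w := by
    intro w hw
    have hwW := hTW hw
    have hdeg : ((wSet K R x y).filter (fun z => R w z)).card = 2 := by
      rw [h.deg_wSet hx hy hwW]
      rw [hT, Finset.mem_filter] at hw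
      exact hw.2
    apply Finset.eq_of_subset_of_card_le
    · intro z hz
      rw [Finset.mem_filter] at hz
      rw [Finset.mem_erase]
      refine ⟨?_, ?_⟩
      · rintro rfl
        exact h.irr z (mem_wSet.mp hz.1).1 hz.2
      · rw [hT, Finset.mem_filter]
        refine ⟨hz.1, ?_⟩
        rcases h02 z hz.1 with h' | h'
        · exfalso
          have h3 : ((wSet K R x y).filter (fun u => R z u)).card = 0 := by
            rw [h.deg_wSet hx hy hz.1]; exact h'
          rw [Finset.card_eq_zero, Finset.filter_eq_empty_iff] at h3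
          exact h3 hwW (h.symm _ _ hz.2)
        · exact h'
    · rw [Finset.card_erase_of_mem hw, hTcard, hdeg]
  -- pick three vertices
  obtain ⟨w1, hw1⟩ : T.Nonempty := by rw [← Finset.card_pos, hTcard]; norm_num
  obtain ⟨w2, hw2⟩ : (T.erase w1).Nonempty := by
    rw [← Finset.card_pos, Finset.card_erase_of_mem hw1, hTcard]; norm_num
  obtain ⟨w3, hw3⟩ : ((T.erase w1).erase w2).Nonempty := by
    rw [← Finset.card_pos, Finset.card_erase_of_mem hw2, Finset.card_erase_of_mem hw1, hTcard]
    norm_num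
  have hw2T : w2 ∈ T := Finset.mem_of_mem_erase hw2
  have hw21 : w2 ≠ w1 := Finset.ne_of_mem_erase hw2
  have hw3' := Finset.mem_of_mem_erase hw3
  have hw3T : w3 ∈ T := Finset.mem_of_mem_erase hw3'
  have hw32 : w3 ≠ w2 := Finset.ne_of_mem_erase hw3
  have hw31 : w3 ≠ w1 := Finset.ne_of_mem_erase hw3'
  have r12 : R w1 w2 := by
    have : w2 ∈ (wSet K R x y).filter (fun z => R w1 z) := by
      rw [hnb w1 hw1]; exact hw2
    exact (Finset.mem_filter.mp this).2
  have r13 : R w1 w3 := by
    have : w3 ∈ (wSet K R x y).filter (fun z => R w1 z) := by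
      rw [hnb w1 hw1]; exact hw3'
    exact (Finset.mem_filter.mp this).2
  have r23 : R w2 w3 := by
    have : w3 ∈ (wSet K R x y).filter (fun z => R w2 z) := by
      rw [hnb w2 hw2T, Finset.mem_erase]; exact ⟨hw32, hw3T⟩
    exact (Finset.mem_filter.mp this).2
  -- a common neighbour in M of w1, w2
  have hM : (mSet K R x y).card = 3 := h.mu x hx y hy hxy hn
  have hi1 : ((mSet K R x y).filter (fun z => R w1 z)).card = 2 := by
    have := hw1; rw [hT, Finset.mem_filter] at this; exact this.2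
  have hi2 : ((mSet K R x y).filter (fun z => R w2 z)).card = 2 := by
    have := hw2T; rw [hT, Finset.mem_filter] at this; exact this.2
  have hint : (((mSet K R x y).filter (fun z => R w1 z)) ∩
      ((mSet K R x y).filter (fun z => R w2 z))).Nonempty := by
    rw [← Finset.card_pos]
    have h1 := Finset.card_union_add_card_inter ((mSet K R x y).filter (fun z => R w1 z))
      ((mSet K R x y).filter (fun z => R w2 z))
    have h2 : (((mSet K R x y).filter (fun z => R w1 z)) ∪
        ((mSet K R x y).filter (fun z => R w2 z))).card ≤ 3 := by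
      rw [← hM]
      apply Finset.card_le_card
      exact Finset.union_subset (Finset.filter_subset _ _) (Finset.filter_subset _ _)
    omega
  obtain ⟨m, hm⟩ := hint
  rw [Finset.mem_inter, Finset.mem_filter, Finset.mem_filter] at hm
  have hmw3 : w3 ≠ m := by
    rintro rfl
    exact Finset.disjoint_left.mp GQ15.mSet_wSet_disjoint hm.1.1 (hTW hw3T)
  exact h.two_common (mem_wSet.mp (hTW hw1)).1 (mem_wSet.mp (hTW hw2T)).1 r12
    (mem_wSet.mp (hTW hw3T)).1 (mem_mSet.mp hm.1.1).1 hmw3 r13 r23 hm.1.2 hm.2.2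

/-- cocliques of size 5 -/
def IsOv (K : Finset U) (R : U → U → Prop) (S : Finset U) : Prop :=
  S ⊆ K ∧ S.card = 5 ∧ ∀ u ∈ S, ∀ v ∈ S, ¬ R u v

/-- two non-adjacent vertices lie in exactly one coclique of size 5 -/
theorem GQ15.exists_unique_ov (h : GQ15 K R) {x y : U} (hx : x ∈ K) (hy : y ∈ K) (hxy : x ≠ y)
    (hn : ¬ R x y) : ∃ T, (IsOv K R T ∧ x ∈ T ∧ y ∈ T) ∧
      ∀ S, IsOv K R S → x ∈ S → y ∈ S → S = T := by
  have hn' : ¬ R y x := fun h' => hn (h.symm _ _ h')
  obtain ⟨c, hcW, hc3⟩ := h.exists_centre hx hy hxy hn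
  have hM : (mSet K R x y).card = 3 := h.mu x hx y hy hxy hn
  have hW : (wSet K R x y).card = 4 := h.card_wSet hx hy hxy hn
  -- c is adjacent to all of M
  have hcM : ∀ m ∈ mSet K R x y, R c m := by
    intro m hm
    have h1 : (mSet K R x y).filter (fun z => R c z) = mSet K R x y :=
      Finset.eq_of_subset_of_card_le (Finset.filter_subset _ _) (by rw [hM]; exact hc3.ge)
    rw [← h1] at hm
    exact (Finset.mem_filter.mp hm).2
  -- (a) c is adjacent to all other vertices of W
  have hca : (wSet K R x y).filter (fun z => R c z) = (wSet K R x y).erase c := by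
    apply Finset.eq_of_subset_of_card_le
    · intro z hz
      rw [Finset.mem_filter] at hz
      rw [Finset.mem_erase]
      refine ⟨?_, hz.1⟩
      rintro rfl
      exact h.irr z (mem_wSet.mp hz.1).1 hz.2
    · rw [Finset.card_erase_of_mem hcW, hW, h.deg_wSet hx hy hcW]
      exact hc3.ge
  have hcw : ∀ w ∈ (wSet K R x y).erase c, R c w := by
    intro w hw
    rw [← hca] at hw
    exact (Finset.mem_filter.mp hw).2
  -- (b) the other vertices of W have at most one neighbour in M
  have hinc1 : ∀ w ∈ (wSet K R x y).erase c, inc K R x y w ≤ 1 := by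
    intro w hw
    by_contra hgt
    have h2 : 1 < ((mSet K R x y).filter (fun z => R w z)).card := by
      rw [inc] at hgt; omega
    obtain ⟨m, hm, m', hm', hmm⟩ := Finset.one_lt_card.mp h2
    rw [Finset.mem_filter] at hm hm'
    have h3 := h.card_wSet_nb_two hx hy hxy hn hm.1 hm'.1 hmm
    have h4 : ({w, c} : Finset U) ⊆ (wSet K R x y).filter (fun z => R m z ∧ R m' z) := by
      intro z hz
      rw [Finset.mem_insert, Finset.mem_singleton] at hz
      rw [Finset.mem_filter]
      rcases hz with rfl | rfl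
      · exact ⟨Finset.mem_of_mem_erase hw, h.symm _ _ hm.2, h.symm _ _ hm'.2⟩
      · exact ⟨hcW, h.symm _ _ (hcM m hm.1), h.symm _ _ (hcM m' hm'.1)⟩
    have h5 := Finset.card_le_card h4
    rw [Finset.card_pair (Finset.ne_of_mem_erase hw), h3] at h5
    omega
  -- (c) the leaves are pairwise non-adjacent
  have hleaf : ∀ w ∈ (wSet K R x y).erase c, ∀ w' ∈ (wSet K R x y).erase c, ¬ R w w' := by
    intro w hw w' hw' hww
    have hwW := Finset.mem_of_mem_erase hw
    have h1 : ((wSet K R x y).filter (fun z => R w z)).card ≤ 1 := by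
      rw [h.deg_wSet hx hy hwW]; exact hinc1 w hw
    have h2 : ({c, w'} : Finset U) ⊆ (wSet K R x y).filter (fun z => R w z) := by
      intro z hz
      rw [Finset.mem_insert, Finset.mem_singleton] at hz
      rw [Finset.mem_filter]
      rcases hz with rfl | rfl
      · exact ⟨hcW, h.symm _ _ (hcw w hw)⟩
      · exact ⟨Finset.mem_of_mem_erase hw', hww⟩
    have h3 := Finset.card_le_card h2
    rw [Finset.card_pair (Finset.ne_of_mem_erase hw').symm] at h3
    omega
  have hxW : x ∉ (wSet K R x y).erase c := fun h' =>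
    (mem_wSet.mp (Finset.mem_of_mem_erase h')).2.1 rfl
  have hyW : y ∉ (wSet K R x y).erase c := fun h' =>
    (mem_wSet.mp (Finset.mem_of_mem_erase h')).2.2.1 rfl
  refine ⟨insert x (insert y ((wSet K R x y).erase c)), ⟨⟨?_, ?_, ?_⟩, ?_, ?_⟩, ?_⟩
  · intro z hz
    rw [Finset.mem_insert, Finset.mem_insert] at hz
    rcases hz with rfl | rfl | hz
    · exact hx
    · exact hy
    · exact (mem_wSet.mp (Finset.mem_of_mem_erase hz)).1
  · rw [Finset.card_insert_of_notMem, Finset.card_insert_of_notMem hyW,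
      Finset.card_erase_of_mem hcW, hW]
    rw [Finset.mem_insert]
    rintro (h' | h')
    · exact hxy h'
    · exact hxW h'
  · intro u hu v hv
    rw [Finset.mem_insert, Finset.mem_insert] at hu hv
    rcases hu with rfl | rfl | hu <;> rcases hv with rfl | rfl | hv
    · exact h.irr _ hx
    · exact hn
    · exact (mem_wSet.mp (Finset.mem_of_mem_erase hv)).2.2.2.1
    · exact hn'
    · exact h.irr _ hy
    · exact (mem_wSet.mp (Finset.mem_of_mem_erase hv)).2.2.2.2
    · exact fun h' => (mem_wSet.mp (Finset.mem_of_mem_erase hu)).2.2.2.1 (h.symm _ _ h')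
    · exact fun h' => (mem_wSet.mp (Finset.mem_of_mem_erase hu)).2.2.2.2 (h.symm _ _ h')
    · exact hleaf u hu v hv
  · exact Finset.mem_insert_self _ _
  · exact Finset.mem_insert_of_mem (Finset.mem_insert_self _ _)
  · -- uniqueness
    rintro S ⟨hSK, hScard, hSco⟩ hxS hyS
    have hsub : (S.erase x).erase y ⊆ wSet K R x y := by
      intro z hz
      rw [Finset.mem_erase, Finset.mem_erase] at hz
      exact mem_wSet.mpr ⟨hSK hz.2.2, hz.2.1, hz.1, hSco x hxS z hz.2.2, hSco y hyS z hz.2.2⟩
    have hcard3 : ((S.erase x).erase y).card = 3 := by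
      rw [Finset.card_erase_of_mem (Finset.mem_erase.mpr ⟨hxy.symm, hyS⟩),
        Finset.card_erase_of_mem hxS, hScard]
    have hcS : c ∉ (S.erase x).erase y := by
      intro hc
      obtain ⟨w, hw, hwc⟩ : ∃ w ∈ (S.erase x).erase y, w ≠ c := by
        by_contra hno
        have : (S.erase x).erase y ⊆ {c} := by
          intro z hz
          rw [Finset.mem_singleton]
          by_contra hzc
          exact hno ⟨z, hz, hzc⟩
        have := Finset.card_le_card this
        rw [hcard3, Finset.card_singleton] at this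
        omega
      have hwS : w ∈ S := Finset.mem_of_mem_erase (Finset.mem_of_mem_erase hw)
      have hcS' : c ∈ S := Finset.mem_of_mem_erase (Finset.mem_of_mem_erase hc)
      exact hSco c hcS' w hwS (hcw w (Finset.mem_erase.mpr ⟨hwc, hsub hw⟩))
    have heq : (S.erase x).erase y = (wSet K R x y).erase c := by
      apply Finset.eq_of_subset_of_card_le
      · intro z hz
        rw [Finset.mem_erase]
        refine ⟨?_, hsub hz⟩
        rintro rfl
        exact hcS hz
      · rw [Finset.card_erase_of_mem hcW, hW, hcard3]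
    rw [← heq, Finset.insert_erase (Finset.mem_erase.mpr ⟨hxy.symm, hyS⟩),
      Finset.insert_erase hxS]

/-- (OVOID) every vertex of an srg(15,6,1,3) lies in exactly two cocliques of size 5 -/
theorem ovoid_count (K : Finset U) (R : U → U → Prop) [DecidableRel R]
    (hsymm : ∀ a b, R a b → R b a) (hirr : ∀ a ∈ K, ¬ R a a) (hcard : K.card = 15)
    (hdeg : ∀ a ∈ K, (K.filter (fun c => R a c)).card = 6)
    (hlam : ∀ a ∈ K, ∀ b ∈ K, R a b → (K.filter (fun c => R a c ∧ R b c)).card = 1)
    (hmu : ∀ a ∈ K, ∀ b ∈ K, a ≠ b → ¬ R a b → (K.filter (fun c => R a c ∧ R b c)).card = 3) :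
    ∀ a ∈ K, (K.powerset.filter
      (fun S => S.card = 5 ∧ a ∈ S ∧ ∀ x ∈ S, ∀ y ∈ S, ¬ R x y)).card = 2 := by
  have h : GQ15 K R := ⟨hsymm, hirr, hcard, hdeg, hlam, hmu⟩
  intro a ha
  obtain ⟨Sa, hSa⟩ : ∃ Sa, Sa = K.powerset.filter
      (fun S => S.card = 5 ∧ a ∈ S ∧ ∀ x ∈ S, ∀ y ∈ S, ¬ R x y) := ⟨_, rfl⟩
  rw [← hSa]
  have memSa : ∀ S, S ∈ Sa ↔ S ⊆ K ∧ S.card = 5 ∧ a ∈ S ∧ ∀ x ∈ S, ∀ y ∈ S, ¬ R x y := by
    intro S
    rw [hSa, Finset.mem_filter, Finset.mem_powerset]
  obtain ⟨Xi, hXi⟩ : ∃ Xi, Xi = K.filter (fun y => y ≠ a ∧ ¬ R a y) := ⟨_, rfl⟩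
  have hXicard : Xi.card = 8 := by
    have h1 := Finset.card_filter_add_card_filter_not (s := K) (fun z => R a z)
    have h2 : K.filter (fun z => ¬ R a z) = insert a Xi := by
      ext z
      rw [hXi]
      simp only [Finset.mem_filter, Finset.mem_insert]
      constructor
      · rintro ⟨hz, hnz⟩
        by_cases hza : z = a
        · exact Or.inl hza
        · exact Or.inr ⟨hz, hza, hnz⟩
      · rintro (rfl | ⟨hz, -, hnz⟩)
        · exact ⟨ha, hirr _ ha⟩
        · exact ⟨hz, hnz⟩
    have h3 : a ∉ Xi := by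
      rw [hXi, Finset.mem_filter]
      exact fun h' => h'.2.1 rfl
    rw [h2, Finset.card_insert_of_notMem h3, hdeg a ha, hcard] at h1
    omega
  have hdc := Finset.sum_card_bipartiteAbove_eq_sum_card_bipartiteBelow
    (s := Sa) (t := Xi) (fun (S : Finset U) (y : U) => y ∈ S)
  have hL : ∀ S ∈ Sa, (Xi.bipartiteAbove (fun (S : Finset U) (y : U) => y ∈ S) S).card = 4 := by
    intro S hS
    obtain ⟨hSK, hScard, haS, hSco⟩ := (memSa S).mp hS
    have h1 : Xi.bipartiteAbove (fun (S : Finset U) (y : U) => y ∈ S) S = S.erase a := by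
      ext z
      rw [Finset.bipartiteAbove, Finset.mem_filter, Finset.mem_erase, hXi, Finset.mem_filter]
      constructor
      · rintro ⟨⟨-, hza, -⟩, hzS⟩
        exact ⟨hza, hzS⟩
      · rintro ⟨hza, hzS⟩
        exact ⟨⟨hSK hzS, hza, hSco a haS z hzS⟩, hzS⟩
    rw [h1, Finset.card_erase_of_mem haS, hScard]
  have hR : ∀ y ∈ Xi, (Sa.bipartiteBelow (fun (S : Finset U) (y : U) => y ∈ S) y).card = 1 := by
    intro y hy
    rw [hXi, Finset.mem_filter] at hy
    obtain ⟨hyK, hya, hnay⟩ := hy
    obtain ⟨T, ⟨⟨hTK, hTcard, hTco⟩, haT, hyT⟩, huniq⟩ :=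
      h.exists_unique_ov ha hyK (Ne.symm hya) hnay
    have h1 : Sa.bipartiteBelow (fun (S : Finset U) (y : U) => y ∈ S) y = {T} := by
      ext S
      rw [Finset.bipartiteBelow, Finset.mem_filter, Finset.mem_singleton, memSa]
      constructor
      · rintro ⟨⟨hSK, hScard, haS, hSco⟩, hyS⟩
        exact huniq S ⟨hSK, hScard, hSco⟩ haS hyS
      · rintro rfl
        exact ⟨⟨hTK, hTcard, haT, hTco⟩, hyT⟩
    rw [h1, Finset.card_singleton]
  rw [Finset.sum_congr rfl hL, Finset.sum_congr rfl hR, Finset.sum_const, Finset.sum_const,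
    hXicard] at hdc
  simp only [smul_eq_mul] at hdc
  omega

end

end Cfsg.Agent.Lib.H1.S77
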