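import Mathlib
import Cfsg.Agent.S0410
import Cfsg.Agent.Lib.H14.SrgBase
import Cfsg.Agent.Lib.H1.S77.GQ
import Cfsg.Agent.Lib.H1.S77.L5
import Cfsg.Agent.Lib.H1.S77.F12
import Cfsg.Agent.Lib.H10.S77PSD
import Cfsg.Agent.Lib.H3.S77FAM
import Cfsg.Agent.Lib.H28.S77T4
import Cfsg.Agent.Lib.H3.S77T3
import Cfsg.Agent.Lib.H25.S77I2
import Cfsg.Agent.Lib.H16.S77CARD
import Cfsg.Agent.Lib.H10.S77COCL1
import Cfsg.Agent.Lib.H22.S77MATE
import Cfsg.Agent.Lib.H15.S77CLS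
import Cfsg.Agent.Lib.H15.S77THRU
import Cfsg.Agent.Lib.H15.S77PART
import Cfsg.Agent.Lib.H6.S77ORTH
import Cfsg.Agent.Lib.H28.S77HOFF
import Cfsg.Agent.Lib.H28.S77COCL2
import Cfsg.Agent.Lib.H25.S77STEINER
import Cfsg.Agent.Lib.H25.S77ISO
import Cfsg.Agent.Lib.H22.S77TR
import Cfsg.Agent.Lib.H1.S77.Ovoid

/-!
# S0429: assembly of the pieces (blueprint `tools/blueprints/S0429.md`)
-/

set_option autoImplicit false
open Cfsg

namespace Cfsg.Agent.Lib.H1.S77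

open Finset

section
variable {V : Type*} [Fintype V] [DecidableEq V] {G : SimpleGraph V} [DecidableRel G.Adj]

theorem hpsdfam (hG : G.IsSRGWith 77 16 0 4) : HPsdFam G :=
  Cfsg.Agent.Lib.H3.S77.psd_fam (Cfsg.Agent.Lib.H10.S77.psd hG)

theorem ht2 (hG : G.IsSRGWith 77 16 0 4) : HT2 G := by
  intro x y z hxy hxz hyz nxy nxz nyz
  have h4 := Cfsg.Agent.Lib.H28.S77.triple_ne_four hG (hpsdfam hG) hxy hxz hyz nxy nxz nyz
  have h3 := Cfsg.Agent.Lib.H3.S77.triple_ne_three hG (hpsdfam hG) hxy hxz hyz nxy nxz nyz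
  have hle : (G.neighborFinset x ∩ G.neighborFinset y ∩ G.neighborFinset z).card ≤ 4 := by
    rw [← nadj_common hG hxy nxy]
    exact Finset.card_le_card Finset.inter_subset_left
  omega

theorem hdisj (hG : G.IsSRGWith 77 16 0 4) {v0 : V} (h2 : HI2 G v0)
    (hn : HNadj G v0) : HDisj G v0 := by
  intro b hb z hz w hw hzw
  by_cases hzb : z = b
  · subst hzb
    rcases (mem_cls.mp hw).2 with h | h
    · exact absurd h.symm hzw
    · exact h.2
  by_cases hwb : w = b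
  · subst hwb
    rcases (mem_cls.mp hz).2 with h | h
    · exact absurd h hzw
    · exact h.2.symm
  have h1 := Cfsg.Agent.Lib.H22.S77.mate_inter_ne_one hG (hpsdfam hG) hn hb hz hw hzb hwb hzw
  have h2' := Cfsg.Agent.Lib.H22.S77.mate_inter_ne_two hG (hpsdfam hG) hn hb hz hw hzb hwb hzw
  have hle := h2 z (cls_subset b hz) w (cls_subset b hw) (Ne.symm hzw)
  rw [Finset.disjoint_iff_inter_eq_empty, ← Finset.card_eq_zero]
  omega

/-- all local facts at a vertex -/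
theorem local_all (hG : G.IsSRGWith 77 16 0 4) (v0 : V) :
    HPart G v0 ∧ HOv G v0 ∧ HC1 G v0 ∧ HC2 G v0 := by
  have hp := hpsdfam hG
  have h2 : HI2 G v0 := Cfsg.Agent.Lib.H25.S77.hi2 hG (ht2 hG)
  have hc : HCard G v0 := Cfsg.Agent.Lib.H16.S77.hcard hG h2
  have hn : HNadj G v0 := Cfsg.Agent.Lib.H22.S77.hnadj hG hp
  have hd : HDisj G v0 := hdisj hG h2 hn
  have he : HClsEq G v0 := Cfsg.Agent.Lib.H15.S77.heq hG hc hn hd
  have ht : HThru G v0 := Cfsg.Agent.Lib.H15.S77.hthru hG hc hd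
  have hpart : HPart G v0 := Cfsg.Agent.Lib.H15.S77.hpart hG hc hn he ht
  have h5 : HL5 G v0 := hl5 hG h2
  have hdi : HDich G v0 := Cfsg.Agent.Lib.H6.S77.hdich hG hpart h5
  have hq : HGQ G v0 := hgq hG hpart hdi
  have hh : HHoff G := Cfsg.Agent.Lib.H28.S77.hhoff hG
  refine ⟨hpart, ?_, ?_, ?_⟩
  · intro K hK
    have h := ovoid_count (classes G v0) (nonorth G) hq.symm hpart.no_edge
      hpart.card_classes hq.deg hq.lam hq.mu K hK
    rw [← h]
    apply congrArg Finset.card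
    ext S
    simp only [Finset.mem_filter]
  · intro C hC h0 b hb hb0
    exact Cfsg.Agent.Lib.H10.S77.cls_subset_of_mem_HC hG hh hc hC h0 hb hb0
  · intro O hO hcard horth
    exact Cfsg.Agent.Lib.H28.S77.isHC_of_ovoid hG hpart hO hcard horth

theorem hf1 (hG : G.IsSRGWith 77 16 0 4) : HF1 G := by
  intro v
  obtain ⟨hp, hov, h1, h2⟩ := local_all hG v
  exact (card_HC_through hp hov h1 h2).1

theorem hf2 (hG : G.IsSRGWith 77 16 0 4) : HF2 G := by
  intro v w hne hadj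
  obtain ⟨hp, hov, h1, h2⟩ := local_all hG v
  exact (card_HC_through hp hov h1 h2).2 w (mem_nB.mpr ⟨hne.symm, hadj⟩)

theorem card_Pt (hG : G.IsSRGWith 77 16 0 4) :
    Fintype.card (Pt G) = 22 := by
  rw [Fintype.card_coe]
  exact Cfsg.Agent.Lib.H25.S77.card_HC_aux hG (hf1 hG)

end

/-- uniqueness of srg(77,16,0,4) -/
theorem main77 {V W : Type*} [Fintype V] [Fintype W] {G : SimpleGraph V} {H : SimpleGraph W}
    [DecidableRel G.Adj] [DecidableRel H.Adj] (hG : G.IsSRGWith 77 16 0 4)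
    (hH : H.IsSRGWith 77 16 0 4) : Nonempty (G ≃g H) := by
  classical
  obtain ⟨e1⟩ := Cfsg.Agent.Lib.H25.S77.isoBG hG (hf1 hG) (hf2 hG)
  obtain ⟨e2⟩ := Cfsg.Agent.Lib.H25.S77.isoBG hH (hf1 hH) (hf2 hH)
  obtain ⟨e, he⟩ := Cfsg.Agent.S0410.result (card_Pt hG) (card_Pt hH)
    (Cfsg.Agent.Lib.H25.S77.steiner hG (hf1 hG) (hf2 hG))
    (Cfsg.Agent.Lib.H25.S77.steiner hH (hf1 hH) (hf2 hH))
  exact ⟨(e1.trans (Cfsg.Agent.Lib.H14.Srg.blockGraphIso e he)).trans e2.symm⟩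

end Cfsg.Agent.Lib.H1.S77
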