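import Cfsg.Agent.Lib.H1.S77.Hyp

/-!
# S0429: the set system (points = cocliques of size 21, blocks = vertices)
-/

set_option autoImplicit false
set_option linter.unusedSectionVars false
open Cfsg

namespace Cfsg.Agent.Lib.H1.S77

open Finset

section
variable {V : Type*} [Fintype V] [DecidableEq V] (G : SimpleGraph V) [DecidableRel G.Adj]

/-- the points of the Steiner system -/
abbrev Pt : Type _ := {C : Finset V // C ∈ HC G}

/-- the block of a vertex -/
def Bk (v : V) : Finset (Pt G) := univ.filter (fun C => v ∈ C.1)

/-- the block set -/
def blocks : Set (Finset (Pt G)) := Set.range (Bk G)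

end

end Cfsg.Agent.Lib.H1.S77
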